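import Cfsg.Agent.Schur.PrimeCert

/-!
Generators of the sixfold cover of the Suzuki group in dimension twelve over the field with seven
elements, a straight-line program for chosen elements and certificates at the primes 2, 3 and 5.
A matrix is the list of its rows, a row is one number with ten bits per entry.
-/

set_option autoImplicit false
set_option maxRecDepth 100000

namespace CfsgLib.SuzukiCover

/-- The generators. -/
def genPk : List (List ℕ) :=
  [
    [0x80000403014030000000003, 0xc060000300001008020140301400, 0xc060000300002010040180501800, 0x14030000500002010040140301400, 0x10040180100c00000000040100806, 0x8020140401800000000040100805, 0x8020180400c00000000080201006, 0x100000c0600c060000000004, 0xc050000500001004040140601800, 0xc0000403014030000000002, 0xc050000500002008010180300c00, 0x14060000600002008010140601800],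
    [0x1003010000140300c060000600400, 0x18000180400000000000040001004, 0x20000500401010010140200003, 0x806008000140300c050000501000, 0x40000501004008020140400003, 0x20000500801008020180100006, 0x10000501002010010180400006, 0x10000300801008010140400005, 0x10060100001805014050000500400, 0x14000100100000000000080000c01, 0x200003010040080100c0200006, 0x10000140100000000000080000c01],
    [0x40500400014050140101803, 0x4030040000c030180100c05, 0x14060000100003008040080000802, 0x406004000180600c0101406, 0x80500400018030140400c06, 0x10060080000c050140100c06, 0x8010180001406000000000300000, 0xc050000400006004020080000802, 0x40301000014060140200c06, 0x18030000200005010010080000802, 0x40600c0001802000000000500000, 0x18020140000c01000000000600000],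
    [0x10010180201803008050140301802, 0x14030000600403008050140301806, 0xc0600805000060100300c0601405, 0x180400c0300c04004020080500c03, 0x40500c0000c0500c060080500c03, 0x14030180601803008050100100802, 0x60140201406014030040601405, 0x14010180601803018050140400006, 0x14030180601800018020140301802, 0x14010180601803018050140000406, 0xc020100501006014030040601404, 0x180500c0300c0200c000180500c01],
    [0x40080100405000050000300000, 0x20100200006018050000300000, 0x8060180300400008000100001004, 0x20040100003000030180300000, 0x40500c0300400004000100000401, 0x20080400003000050000601800, 0x80600c0601000010000100000801, 0x40040200003000050000500001, 0x1400000000180200c040140401805, 0x14000000001404018040140200c06, 0x14000000000c02018010180201803, 0x4010040100006000050000600000],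
    [0x4060000600405010010000101000, 0x1400004000140000c030100300c04, 0xc000100001400018060080300c02, 0x10050000500403008040000101000, 0x18000080000c00018030100500c02, 0xc000100000c0000c050040500c04, 0x200c02000060000000c0000006, 0x14000100000c0000c030080601802, 0x40180600001000000180000005, 0x4050000501003010010000400800, 0x60180400001000000180000005, 0xc00008000180000c050100301802],
    [0x10020080301400000050000501803, 0x4020040300c00000030000500c05, 0x4020040501400000060000301806, 0x140500c0000002008000180000000, 0x8040080501400000030000500c06, 0xc030180000004018000040000000, 0xc030180000006010000040000000, 0x10020080600c00000060000600c06, 0x4040100301400000060000600c03, 0x4004050140100c0200801, 0x40040300c040180100401, 0x20100300c010180200804]]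

/-- Their inverses. -/
def genInv : List (List ℕ) :=
  [
    [0x80000403014030000000003, 0xc060000300001008020140301400, 0xc060000300002010040180501800, 0x14030000500002010040140301400, 0x10040180100c00000000040100806, 0x8020140401800000000040100805, 0x8020180400c00000000080201006, 0x100000c0600c060000000004, 0xc050000500001004040140601800, 0xc0000403014030000000002, 0xc050000500002008010180300c00, 0x14060000600002008010140601800],
    [0x1003010000140300c060000600400, 0x18000180400000000000040001004, 0x20000500401010010140200003, 0x806008000140300c050000501000, 0x40000501004008020140400003, 0x20000500801008020180100006, 0x10000501002010010180400006, 0x10000300801008010140400005, 0x10060100001805014050000500400, 0x14000100100000000000080000c01, 0x200003010040080100c0200006, 0x10000140100000000000080000c01],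
    [0x8030080000c0300c0201406, 0x80600800018060140201803, 0xc050000200006010010100001004, 0x80500800014050180200c05, 0x1003008000140600c0101805, 0x405010000180300c0201805, 0x10020140000c05000000000600000, 0x18030000100005008040100001004, 0x8060040000c0500c0401805, 0x14060000400003004020100001004, 0x8050180001404000000000300000, 0x140400c0001802000000000500000],
    [0xc060040500404014020080400405, 0x8040000101804014020080400401, 0x1001014020000100c040100100802, 0x4030100401003018050140201004, 0x18020100001002010010140201004, 0x80400401004040140200c0601405, 0x10080500801008040180100802, 0x8060040100404004020080300001, 0x8040040100400004050080400405, 0x8060040100404004020080001801, 0x100500c0200c01008040180100803, 0x4020100401005010000040201006],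
    [0x600c0501404000040000100000, 0x30180300002008040000100000, 0xc02008010140000c000180001806, 0x30140500001000010080100000, 0x14040040101400014000180001405, 0x300c0600001000040000200800, 0xc020040201800018000180000c05, 0x60140300001000040000400005, 0x10000000000803004060100600804, 0x10000000001006008060100300402, 0x10000000000403008050080300801, 0x14050140500002000040000200000],
    [0x8050000500803004020000200400, 0xc000080000c00018060040601801, 0x18000040000c00014050100601804, 0x4030000300806010010000200400, 0x14000100001800014060040301804, 0x18000040001800018030080301801, 0x40180400005000000180000005, 0xc000040001800018060100501404, 0x10140500002000000140000003, 0x8030000300406004020000101000, 0x50140100002000000140000003, 0x18000100001400018030040601404],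
    [0x4040100600c00000030000301406, 0x8040080601800000060000301803, 0x8040080300c00000050000601405, 0xc030180000004010000140000000, 0x10010100300c00000060000301805, 0x18060140000001014000080000000, 0x18060140000005004000080000000, 0x4040100501800000050000501805, 0x8010040600c00000050000501806, 0x10080300c020180401002, 0x100806018010140200802, 0x400406018020140401001]]

/-- All chosen elements. -/
def elPk : List (List ℕ) :=
  [
    [0x80000403014030000000003, 0xc060000300001008020140301400, 0xc060000300002010040180501800, 0x14030000500002010040140301400, 0x10040180100c00000000040100806, 0x8020140401800000000040100805, 0x8020180400c00000000080201006, 0x100000c0600c060000000004, 0xc050000500001004040140601800, 0xc0000403014030000000002, 0xc050000500002008010180300c00, 0x14060000600002008010140601800],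
    [0x1003010000140300c060000600400, 0x18000180400000000000040001004, 0x20000500401010010140200003, 0x806008000140300c050000501000, 0x40000501004008020140400003, 0x20000500801008020180100006, 0x10000501002010010180400006, 0x10000300801008010140400005, 0x10060100001805014050000500400, 0x14000100100000000000080000c01, 0x200003010040080100c0200006, 0x10000140100000000000080000c01],
    [0x40500400014050140101803, 0x4030040000c030180100c05, 0x14060000100003008040080000802, 0x406004000180600c0101406, 0x80500400018030140400c06, 0x10060080000c050140100c06, 0x8010180001406000000000300000, 0xc050000400006004020080000802, 0x40301000014060140200c06, 0x18030000200005010010080000802, 0x40600c0001802000000000500000, 0x18020140000c01000000000600000],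
    [0x10010180201803008050140301802, 0x14030000600403008050140301806, 0xc0600805000060100300c0601405, 0x180400c0300c04004020080500c03, 0x40500c0000c0500c060080500c03, 0x14030180601803008050100100802, 0x60140201406014030040601405, 0x14010180601803018050140400006, 0x14030180601800018020140301802, 0x14010180601803018050140000406, 0xc020100501006014030040601404, 0x180500c0300c0200c000180500c01],
    [0x40080100405000050000300000, 0x20100200006018050000300000, 0x8060180300400008000100001004, 0x20040100003000030180300000, 0x40500c0300400004000100000401, 0x20080400003000050000601800, 0x80600c0601000010000100000801, 0x40040200003000050000500001, 0x1400000000180200c040140401805, 0x14000000001404018040140200c06, 0x14000000000c02018010180201803, 0x4010040100006000050000600000],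
    [0x4060000600405010010000101000, 0x1400004000140000c030100300c04, 0xc000100001400018060080300c02, 0x10050000500403008040000101000, 0x18000080000c00018030100500c02, 0xc000100000c0000c050040500c04, 0x200c02000060000000c0000006, 0x14000100000c0000c030080601802, 0x40180600001000000180000005, 0x4050000501003010010000400800, 0x60180400001000000180000005, 0xc00008000180000c050100301802],
    [0x10020080301400000050000501803, 0x4020040300c00000030000500c05, 0x4020040501400000060000301806, 0x140500c0000002008000180000000, 0x8040080501400000030000500c06, 0xc030180000004018000040000000, 0xc030180000006010000040000000, 0x10020080600c00000060000600c06, 0x4040100301400000060000600c03, 0x4004050140100c0200801, 0x40040300c040180100401, 0x20100300c010180200804],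
    [0x10050140500403014000080500c06, 0x18060040601405018030100201403, 0x18000180601404018030040601003, 0x14000100400403014060180500c06, 0x4030040301806000050140300805, 0xc0300c0101806000050100301804, 0x14050140200c03014020180501006, 0x180600806014040180000c0601401, 0x10050140400c01014060180000c06, 0x14050140501004010060180500c06, 0x8040140500c03014060180500c01, 0xc0300c030080600c050140000804],
    [0xc050040300c050080200c0101403, 0x18010140201804010050180600c06, 0xc050180100c05018020100301401, 0x18030140600804014050180200c02, 0x100600c0501006004030080501805, 0x18030100000003014050180600c06, 0x18030140601803000050180600400, 0x30140601801014000180600c06, 0x100600c040140600c030140400405, 0xc0401803004050180200c0300803, 0x18000140601803014050080000c06, 0x1002010050140600c030140501804],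
    [0x18060040201004010010000200806, 0x4010080000401004020080601805, 0x4010000400405014020080401005, 0x10040040201804010060040200803, 0xc020000100802008060100101402, 0x8020100100805008040180101802, 0x10060040001006010050040200804, 0x4050080400001014020080401801, 0xc04004030100400c010040200804, 0x18040040200006010010040300804, 0x10040040201004018050000300804, 0x8050180100802008040100600402],
    [0x14040140000803018050100600000, 0xc040180000805014060100500000, 0x8000080300001010010000201403, 0x50000401800000000100000401, 0x8000040300001008020000400c05, 0x4000100300002008020000101403, 0x8000080500002008040000401406, 0x300001010000000000c0000802, 0x14010180001005018060040600000, 0x4000080300002004040000200c05, 0x40000401800000000140000401, 0x8000100500002010020000201805],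
    [0x80100c0200402004050080201406, 0x10020100000800008020100400803, 0x4040140501801010040040601004, 0x4040040101001000000040501004, 0x4030040101805010060040101004, 0x80100802014020140100c0200406, 0x4060000101001010040000101004, 0xc02018040080600c020100400802, 0xc020100600804008030180400802, 0xc010080200002004010080200001, 0x4040040101005010040140601804, 0x4030040501001018040040101804],
    [0x10140000c05008060000600c04, 0x40300c0100000014000100000005, 0x4050000200000018000040000805, 0x14000040301001000010180200400, 0x200c0000c06004050000601404, 0x10050000100000014000040300003, 0x10060000200000014010080000005, 0x100c0000c05004030000301801, 0x140001006008020000100c0200800, 0xc0000803010040000400c0200800, 0x805000010000500c000080000005, 0x1003000040080000c000040000005],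
    [0x4060180300c0300c050140001400, 0x140100c0500005014060180500003, 0xc060040300403004050140101406, 0xc06018010040300c050080301402, 0x40501406008020180100c0600c05, 0xc010180300c03004040140301402, 0xc010180100c0100c050140101406, 0x140300c0501405014020040400803, 0x180501000018060180000c0600c05, 0x14030100501404014060180500801, 0x18050140601800000030040600c05, 0x10060180100c03004050140301006],
    [0x404004010080500c040040401801, 0xc0201006004010040200c0201004, 0x80000802018060100100c0100802, 0x18000100400401004020100301804, 0x8010080200c04010010080600803, 0xc0100c0201804000010080100802, 0x10020100400401000030180301004, 0x10020180400401004020180201800, 0x10020100001401004030100201804, 0x18020100400405004030100201000, 0x4040140000803008040040600401, 0x4060180100802008030040400401],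
    [0xc0300c02014050180500c0000003, 0x14040140301806004010140500405, 0xc0100c01010040180500c0301803, 0x1405014030180200c060080500404, 0x14030180600c060100500c05, 0x18020040500c03014030180201402, 0x14050140300806004060080400c05, 0x40301006010050180500c0300803, 0x18060180500003014010180601400, 0x10050140401806004060140500c04, 0x8060180500c01014040180201406, 0x14050100301800000060140500c05],
    [0x80300c0400804008040080201003, 0x14020100400804014040080201804, 0x10040040100c01010050100300401, 0x8020180400c06008040080200004, 0xc020180400804008040000301004, 0x40100c0300402014000040100802, 0x80201003008030080400c0201004, 0xc020100400806008000080201006, 0x10040040501001010010100600005, 0x4000080200403014020040500802, 0x10040040101801018010000400405, 0x14000080301402004020040100802],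
    [0x40500802000000000500002, 0x8040180001803004040040000400, 0x100600401000000000200003, 0x40100c0001403008020040000400, 0x80400c0001403010010100000800, 0x8020140001406004020100000400, 0x18030000100000018050140101404, 0xc06000010000000c0300c0101804, 0x100200401000000000600003, 0xc03000020000000c050140201801, 0x8010140001805010020040000800, 0x4040140001406010040040001000],
    [0x14000180500001014030040401800, 0x10000000803000000140601801, 0x14000140600001014060100100c00, 0x4050040101400010010000000406, 0x10040001003000000180300002, 0x40000001006018000180600001, 0x4040000001003000000140500004, 0x400001004030000000c0600002, 0x20000000403000060180500001, 0x8030040401400010020000001003, 0x8050100100c00010040000000803, 0x140000c0300002018060100401800],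
    [0x14040100400000010020000601802, 0x30140300802014030100000003, 0x600c0300401014060080000003, 0x4000000001806000000100200400, 0xc010080100000008020000301802, 0xc040100200000008020000501401, 0x80000000014040000000c0400800, 0x80000000010050000000c0400800, 0x14010040200000008040000601801, 0x18010080400000004020000601401, 0xc020100400000004040000301801, 0x600c0500802018060100000005],
    [0x80100c01014040180200c0201001, 0x8010080600804018030080201005, 0x14050080100804018020080201801, 0x80500c0500804010050080201001, 0x10020100201002004040100600402, 0x18050100201001004060180400402, 0x18020100301801018040100400402, 0xc0100c0100804010020080200c05, 0x10020100301001004040180401405, 0x8050080100c04010020140201005, 0x10020100201005004040100100402, 0x100200c0201801004060100401402],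
    [0x1402008030180300c030140300403, 0xc0500c01010060180100c0601406, 0xc0500c06014000080200c0601006, 0x1406014030180100c030080401803, 0x100500c06014060040600c0601402, 0x18030180400c05014050180400400, 0x40500c0600006018060040601006, 0x18030080500005010050180400c05, 0xc050040601406018020040601400, 0x18000180400c05010050080500c05, 0x1000014030180300c010140101803, 0x40500402014000180600c0601406],
    [0x4060080200802010060080300801, 0xc020100401004000010100501003, 0x8020100601004004000180101003, 0x40100802000020100400c0600c01, 0x80200c0401804004010100101005, 0x8030100401000004010100101803, 0x18060040500001008020040200404, 0x8020180601000004010100501002, 0x1004004060040100c020040201804, 0x140100c0200802010000080400c01, 0x10060140100401000020140200404, 0x140201004010060040100c0101002],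
    [0x10100100000010000100000803, 0xc000000001806000030000600806, 0x10040200000008000080300800, 0xc000000001405000050080600003, 0x10100400000008030040001000, 0x18000000001803008060000600003, 0x40040400003010000040000800, 0x20080100c00008000040000800, 0x14000000201403000030000600005, 0x14000080001805000030000500003, 0xc020000001803000050000500005, 0xc040040100000008000100001000],
    [0x8000180400804008040080201003, 0x4010080000402004020040600c02, 0x10080200405004030040100802, 0x10060040101001010050180401405, 0x8020100300804008040080001804, 0x18010080200400004030040100802, 0x40100c0201402014030040100c02, 0x80201004000040140400c0201004, 0x18040140101005010010180401401, 0x10030140101001010010100400400, 0x40100c0300402004030140500802, 0x4010080201802000020140100802],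
    [0x14020000101003008010100101005, 0x400c0201404010020140200402, 0x4030140101002008050100101000, 0x10010100500801014040080400804, 0x10010100400c05004060080400004, 0x8040080300404014020040200402, 0x4030040101003008010180001001, 0x14030040100002008010100101801, 0x4020040101002008000180101805, 0x4000040101802008010100501005, 0x10010180400800004040080600c04, 0xc040080200404010030000300402],
    [0x18030040001405018040080000003, 0x200c04000000000500c0400400, 0x140400001000050180200800, 0xc060080001406018020080000006, 0x10040000300804008000000300c02, 0xc01000000180600c0200800, 0xc0200000000030180200406, 0x14030080000c06018040040000005, 0x140000c0200000000050140100800, 0xc0400400000060180101000, 0x10020000601004004000000500c04, 0x4010000600404004000000301402],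
    [0x18010100201004004020180500803, 0x4020040400401008060040200401, 0x8040080500c02010010080300403, 0x100501802010040040200c0100806, 0x4020040400401008010040201801, 0xc0400c050080200c010080400402, 0x18050100201803004020100100804, 0x10010180200c06004020100500804, 0x403004030040100c040040301001, 0x100100c0201804014020180100804, 0x80300805008030100100c0400402, 0xc010100201006014020100100806],
    [0x18050000100c05010050080301406, 0xc0601802014060180600c0201801, 0xc060180501400018060040400803, 0x140300c0601801010040140600c05, 0x8050140300c05010050180301000, 0x10060180501006018060100501803, 0xc0601804000060180200c0500803, 0x18020100300c05014050180300806, 0x100100c020180000c030140600c05, 0x140100c060180300c010100600c00, 0xc0201805000060080600c0401803, 0x40600005014060180200c0401803],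
    [0x600c03018050040200c0301403, 0x180200403018050040500c0101003, 0xc030140500402010060140401804, 0x8050180601403008000180600c06, 0xc000080500406014060140501805, 0x10050180601003018010180200406, 0x180600c030180200c0500c0301000, 0x180600c040180500c050000101403, 0x14020000601003018030180600c06, 0x180600c000180500c050100101403, 0x180600c0100805004050040301003, 0xc030140500c00014060140500802],
    [0x401014030140300c030140401400, 0x4030140301403004030100500005, 0xc030140301403004010140001404, 0xc01014030140300c010000501005, 0x14050180500805014000080201806, 0x14050080501805000050180200806, 0x14050180401801014050180601806, 0x403010030000300c010140501405, 0x14050180101804014050180601806, 0xc010000301003004030140501405, 0x14000080501805014050080601802, 0x50180500805014050180600802],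
    [0x4020040601404004020000100805, 0x10000100301003010010080600404, 0x10010180501002010060080400404, 0x4008050080100c040040201802, 0x20040401406004030100100801, 0x4000040400404014030100100805, 0x8040080100806014040140201002, 0x8040000100c0100c040040301002, 0x4020040400404004030000500c01, 0x4020000400406004020100100c05, 0x4030040401804004020100101401, 0x18010100201002010010080300403],
    [0x8020000200c01008040040600c01, 0x10000040401002010050080101803, 0x18010080500404004020100201804, 0x14000080100404004020180300404, 0x40100c01004040040200c0200403, 0x4010080100400014020180201404, 0xc020100200c00008040040400805, 0x8020100200805008030040300801, 0x4010080000404014020100300406, 0x18040000401002018050080101002, 0x10060040400c0200c010080101002, 0x4010080001404004030180200404],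
    [0x18050000400005000000000600004, 0x100200c000140000c0600c0201800, 0x100401400018000180600c0101400, 0x100301006008040100000803, 0x14030000500002000000000500001, 0x100500403010040040000805, 0xc060000200004000000000300003, 0x4010140000c0000c060140201400, 0x10020180001800014050140201400, 0x10020140000c00018030180200c00, 0x100600805004040080000806, 0x8020140001400014060180401400],
    [0x30180000802000000000001805, 0xc010040300000014030140601000, 0x10000000201405010020080200006, 0x1401010030000000c030180500400, 0x18010040500000018060180501000, 0x18010100600000018050140600400, 0x500c0000405000000000000c04, 0x1802004030000000c050180600800, 0x30180000c02000000000001801, 0xc020080500000018030180600400, 0x8000000200c03010010080100005, 0x10000000100c03008020040200005],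
    [0x10010140200404008050040101804, 0x14030100400801010000080300801, 0x8030040601802004040100401002, 0xc010080200403008010140100404, 0x4020100600805010000080200805, 0x18010080300404000010040101404, 0x8060140101003000040100401002, 0x4020100400005010020080300c01, 0x180100c0200004008010040100406, 0x8040140501002004040000601002, 0x10050080200404008010000101406, 0x1001008020040400c010040600403],
    [0x80300c0601800004060080301803, 0xc050140100c050140300c0500805, 0x80000c060180300c020180301801, 0x40100300c040140300c0500c05, 0xc040140300c050100000c0400c05, 0x1803004060180300c020080001803, 0x803000060080300c060180101803, 0xc050140300c04014030000400c04, 0xc050140200c050140300c0500405, 0x180100c060080300c060080301800, 0x180300c0600801000020180301803, 0xc0501003000050100300c0500c04],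
    [0x20140200c05018010180500c06, 0xc0101803010060040500c0601400, 0x3008030100600c0500c0601003, 0xc04004030140600c050040601403, 0xc03018030140600c0200c0600801, 0x100500c0501804008060140301805, 0x18060140600404018010000500c06, 0xc03018040080600c0500c0201403, 0x14050040501803010020140001805, 0x14050040401801014060140301800, 0xc01018030140200c0500c0001003, 0x18060140200c05008030000500406],
    [0x18020080001801018000100101000, 0x18010100001802018000080400400, 0xc000000500800008060000000003, 0x30180400005000040140600c04, 0x50180400006000010140501802, 0x800000050080000c060000000003, 0x18040040001804018000040200800, 0x8000000500c00008060000000003, 0x300c04000030000100c0300c02, 0x60140400005000010180601402, 0x50140400003000040180301804, 0x600c04000060000400c0501404],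
    [0x8000040500800000030180300000, 0x4000080000400000030180600800, 0x50000500006014020100101806, 0x4030080000800000050140300000, 0x30000600003014010040101406, 0xc020140401804008000000001002, 0x18020180101802010000000001001, 0x140100c0101802008000000000402, 0x4000040001000000030140500006, 0x8000080001000010050180500000, 0x50000600006018040080101405, 0x8000040000401000050140600000],
    [0x1802018000040500c060080300000, 0x140200c0000406018030080600000, 0x4000040500004008040000101805, 0x60000200c00000000080001004, 0x4000100500004004010000201406, 0x10000080500001004010000401805, 0x4000040600001004020000201803, 0x50000400800000000140000401, 0x180400c000080600c030100300000, 0x10000040500001010020000101406, 0x20000200c00000000180001004, 0x4000080600001008010000100c06],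
    [0x8010080201003018010080101402, 0x18040040500802008040180400401, 0x10000100401405004020180201004, 0x14000040100802008040040601401, 0x10020100401801004020100501006, 0x18020180401401000020100201004, 0x4040040100802000060140600401, 0x4040140100802008040140401400, 0x4040040000c02008060040401401, 0x14040040100803008060040400400, 0x80100c0001006010010080500802, 0x8050140201004010060080100802],
    [0x80301004000000000300004, 0x10010140001406008010080000800, 0x40500802000000000400006, 0x8020180000c06010040080000800, 0x10010180000c06004020040001000, 0x100400c0000c05008040040000800, 0x140600002000000140300c0200c01, 0x18050000200000018060180201401, 0x40400802000000000500006, 0x180600004000000180300c0401402, 0x100200c0001403004040080001000, 0x80100c0000c05004010080000400],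
    [0x80300800014040040200c0100000, 0x100300400014020080100c0200000, 0x1400014040000600c060000500804, 0x200003004000000000c0001806, 0x14000180400006014050000301002, 0x180000c0400005014050000600804, 0x14000140200005014030000300801, 0x40000600c00000000100001405, 0x8060040000c02004010180100000, 0x18000140400005018030000501002, 0x30000300400000000080001806, 0x140000c020000500c050000500402],
    [0x100802008000100000003, 0xc010180000000000060000501400, 0xc030180000000000020000501400, 0x401401004000080000001, 0x18060140000000000050000100c00, 0x10080200c000100000002, 0x100803008000100000002, 0x100802008000180000002, 0x301004010000040000004, 0x8060140000000000050000300c00, 0x140500c0000000000030000600800, 0x14050040000000000030000601800],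
    [0x14000140600803018040000400005, 0x40000001400000060100500c00, 0x80300802000010100000c0001401, 0x200000018000000300c0600400, 0x8060040100001008000180000c01, 0x14000140300805014020000100003, 0x180000c0500805014040000400006, 0x100300401000020080000c0001402, 0x14000180501005018040000200003, 0x18000140301006014040000200005, 0x30000001800000030080600400, 0x140000c0500403014020000200005],
    [0x40001006004000000500c0500000, 0x100000400010000000500c0300400, 0x60000600003018010080400c03, 0x10050040000400000060180500000, 0x50000300005018040100401803, 0x14010180200c02004000000000801, 0xc0100c0400c01008000000000804, 0x18040140400c01004000000001001, 0x10000100000800000050180600003, 0x40000400008000080600c0600000, 0x6000030000300c020040401806, 0x4000100001004000060180300000],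
    [0xc0200c03018020180500c0501003, 0xc0500c0401806018040100500c03, 0x18030080600805014030180301801, 0x14020140500c0300c000140201404, 0xc0400c0300806000050040500c03, 0x40400001018060180500c0500c03, 0x100500c03018060080500c0200c03, 0x14060000500c0300c060100201005, 0x1006014050040300c000140601005, 0x18030180201000014030180101806, 0x18030180201405000030180300802, 0x40500c0301800018050040500c01],
    [0x8000180200400000040080001000, 0x5014000000300c000000501006, 0x8000000400806000040040000800, 0x6014000000500c040000300005, 0x600c000000600c000100600006, 0x800000020100000c010040000400, 0x4000000401000000040080500400, 0x60140200006018000000500003, 0x50140000406014000000600005, 0x4000000200800000010080000805, 0x10030000201000000040100000800, 0x100600c0000003014000000500005],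
    [0xc050180300c03010050180001003, 0x140200c0501405018060100301400, 0x1801014060180600c030000501801, 0x100200405014050080200c0301405, 0xc040080300403014050180200403, 0x1803010000180100c030140501806, 0xc050080400c00014050180600c03, 0xc050180300c03010050180100003, 0xc050080300403010050080600c01, 0x18010140200802004030140501806, 0x50180300403014020180600c03, 0x80600c05010050180000c0301405],
    [0xc0200c0500006000040000000004, 0x800010030180100c000140300c00, 0x30000400800008050040400406, 0x140400c0000003010010000000004, 0x8000040500c0400c0000c0301800, 0x180100c0000003000040000600001, 0x30000401000004060080200405, 0x8000080501802014000140601800, 0x14040140000406000040000000001, 0x30000200800004030080400803, 0x180101400000060000100c0000004, 0xc020140000003000010000000801],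
    [0x180000c0500c05000000140600000, 0x140000c0500006000000180500c00, 0x20040000800010020000000804, 0x10000000800010040100001002, 0x18060180600005000000180500000, 0x1400014030000500c000180600000, 0x20000101000008020000001002, 0x18000140300006000000140500003, 0x20000000402004040000000802, 0x20000000800008040000200401, 0xc0001405000050000500c0500000, 0x10010000001000008040000000804],
    [0x40600c020140200c0600c0501806, 0x180200c00014050040200c0501806, 0x4010100301806014030140600003, 0xc030080301806008030140600c01, 0x14050180500c01008050080300005, 0xc030100001806014030100200c03, 0xc040140300806014030080600c03, 0x14040180500c01018050180101400, 0x4030140300006010030140200c03, 0x14050180500c03018020180401005, 0xc030100300002014010140600c03, 0x80600c060140500c020040501800],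
    [0x60180101402000030000300806, 0x4000040300005010000080001400, 0x60180400c02000050000501005, 0x30180400c04000060000300803, 0x4000000600c06010000100001800, 0x1401010000100000c0400c0100004, 0x180201000010000180200c0400001, 0x4000000300003004000040001804, 0x10050000300006004000100001400, 0x8000000300006010020040000c00, 0x8000000300005008000100601800, 0x1804008000100000c040180200001],
    [0x10040100201000018040080500805, 0x10040100200c01010040080100c06, 0x10140400402004050100201003, 0x100401002018000100600c0100801, 0x8050140100806008020040400404, 0x4050040400402014050100200002, 0xc020080100804014020180400404, 0x10040100301001010030080600801, 0x100401802010010100400c0500001, 0x30080100c04008020040600404, 0x10040180001801018040080100801, 0x4050040000402004010180201003],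
    [0x10180401805014000140501000, 0x4060000500000000020000001805, 0x1018010140500c000180600800, 0x20180100c06014000140600400, 0x40140401405018000140600400, 0x18000100000404010050080100006, 0x10140400c0600c0000c0601000, 0x18000040001002004050100400006, 0xc000040000404004060100100003, 0x40180400c0300c000180500400, 0xc050000300000000040000001402, 0x8050000300000000060000001402],
    [0x18020000500c010080000800, 0x4020000501000000030140101004, 0xc030100001402008000000601803, 0x10010000500400000060180101001, 0x3018040000600c040100000000, 0xc030100000c04004000000500c05, 0x100000c0400005018040080000000, 0xc010000500c020100300000, 0x180400005014020040000005, 0x14060100000c01010000000601805, 0xc040100300c010040000000, 0x100200005010000000500c0400401],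
    [0xc000100400000008050080300000, 0x40500c0001806000020000401403, 0x8030140001803000010000401406, 0x14040000200000008030100300000, 0xc000000200000010050100500006, 0x2008030080100c0000c0000401, 0x40040300401018000140000402, 0xc000000100000008030040500400, 0x101005004020180000c0000401, 0x8050140001805000020000200c05, 0x18000000401400008060100500000, 0x14000000400006010030080500000],
    [0x180501803008030000400c0601402, 0xc0600c0400c0000c060140300801, 0x30140601406014010080500405, 0x14010140201406014010180000c05, 0x80501804004030180500c0601406, 0x18050080101803000050040601406, 0x20040500c0500c060140301801, 0x18040180300800018050040601406, 0x180201803018030080500c0600806, 0xc060100500c0400c010140301803, 0x14030140601406014030040400c02, 0x180500803008030180500c0001006],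
    [0x100600001008030180001800, 0xc060000101400000020040301405, 0x8020140000406018000000401002, 0x14030000100c00000040100301403, 0x20100500004008050140000000, 0x802014000080500c000000100801, 0x14000080500001010050180000000, 0x80300001008060140200000, 0x1005000010040600c0000001, 0x4040140000803014000000401001, 0x805014020080300c0000000, 0x14060000101400000010080500c03],
    [0x14000000100c0000c010000000006, 0x4030140001005004000180300c00, 0x100600c00010060080000c0300c00, 0x40601400004030100000c0301400, 0x18000000401400014060000000002, 0x40100600002000060100100803, 0x40500c00010030040000c0501800, 0x20040600004000060080401003, 0x18000000601400014040000000002, 0x100300c0000803010000180301800, 0x40300c0000406010000140500c00, 0x20100500002000050080400806],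
    [0x4010040201404014010080400c03, 0x18010040300404004050080400c04, 0x4010140000404000010080400804, 0x8030140400801008020180101801, 0x8020140400c01008030100501001, 0x40100403004040040100c0600803, 0x8030080600c06008020100101001, 0x8000080400801008000100101005, 0x18050040200404014010080600804, 0xc020080400001008020000101001, 0x802008040080600c030180101001, 0x4010040200406004010080000004]]

/-- Each further element as a product of earlier ones. -/
def slp : List (List ℕ) :=
  [
    [4, 3, 6, 2, 2, 2, 1, 6, 5, 5, 4, 5, 2, 0, 0, 1, 3, 6, 5, 3, 2, 6, 4, 6], [7, 7], [8, 8], [7, 9, 9],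
    [2, 4, 3, 2, 3, 4, 5, 1, 2, 3, 2, 6, 1, 5, 1, 6, 5, 2, 1, 6, 2, 3, 4, 3, 2, 3, 1, 2, 3, 4, 1, 3, 2, 1, 0, 1, 3, 2, 1, 4, 3, 2, 3, 5, 1, 6, 1, 5, 2, 1, 5, 3, 2, 0, 1, 6, 2, 3, 2, 1, 5, 4, 3, 2, 1, 6],
    [1, 3, 2, 3, 4, 3, 2, 1, 3, 2, 4, 3, 2, 1, 6, 1, 2, 1, 6, 5, 3, 2, 3, 4, 1, 2, 3, 1, 2, 1, 0, 1, 5, 4, 0, 2, 3, 2, 3, 6, 1, 2, 3, 2, 1, 4, 3, 2, 1, 0, 5, 3, 4, 1, 0, 1, 2, 3, 2, 1, 0, 1, 5, 4, 3, 2, 0, 1],
    [12, 12, 12],
    [1, 0, 2, 3, 2, 1, 0, 1, 4, 3, 2, 1, 5, 1, 0, 1, 5, 6, 1, 2, 3, 4, 2, 3, 2, 1, 6, 3, 4, 3, 2, 1, 0, 3, 5, 1, 0, 2, 1, 3, 2, 3, 4, 3, 2, 0, 6, 2, 1, 5, 3, 4, 0, 1, 2, 3, 2, 1, 6, 1, 0],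
    [0, 6, 1, 2, 3, 2, 1, 3, 4, 5, 1, 6, 4, 1, 2, 3, 2, 1, 6, 4, 1, 2, 0, 4, 3, 2, 6, 1, 2, 3, 2, 4, 3, 2, 5, 1, 6, 5, 3, 1, 2, 1, 0, 1, 5, 3, 2, 1, 6, 4, 3, 2, 3, 1],
    [15, 15], [15, 16, 16],
    [0, 1, 0, 3, 2, 1, 5, 1, 0, 2, 1, 3, 4, 6, 1, 6, 4, 3, 0, 1, 2, 0, 1, 5, 4, 0, 1, 0, 4, 3, 2, 3, 6, 1, 0, 1, 0, 1, 0, 1, 5, 3, 2, 1, 6, 1, 2, 0],
    [18, 18, 18], [2, 4, 0, 1, 6, 3, 5, 5, 6, 3, 5, 2, 0, 1, 4, 4, 1, 0, 2, 4, 4, 4, 6, 3], [20, 20],
    [21, 21], [22, 22],
    [0, 4, 3, 2, 1, 3, 2, 3, 4, 3, 2, 3, 4, 6, 1, 6, 3, 4, 0, 1, 2, 3, 0, 1, 2, 3, 4, 1, 0, 1, 2, 2, 4, 3, 2, 1, 0, 1, 2, 3, 2, 5, 6, 1, 2, 0, 1, 5, 2, 1, 6, 2, 3, 4, 1],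
    [24, 24], [25, 25], [26, 26],
    [1, 4, 3, 2, 3, 2, 1, 0, 1, 2, 3, 4, 3, 2, 1, 0, 6, 3, 4, 3, 2, 1, 0, 1, 2, 3, 2, 1, 6, 3, 4, 2, 3, 1, 1, 4, 3, 2, 3, 2, 1, 0, 1, 2, 3, 4, 3, 2, 5, 1, 2, 5, 3, 4, 1, 2, 3, 2, 1, 0, 1, 6, 1, 2, 3, 4, 0],
    [28, 28], [29, 29],
    [3, 4, 3, 2, 1, 3, 2, 3, 2, 1, 4, 6, 0, 2, 3, 2, 1, 6, 4, 2, 3, 2, 3, 4, 1, 0, 4, 3, 2, 1, 3, 2, 3, 4, 3, 2, 3, 6, 1, 0, 1, 4, 0, 1, 5, 3, 2, 0, 1, 6, 4, 3, 2, 3, 4, 3, 2, 1],
    [31, 31],
    [1, 3, 4, 3, 2, 1, 3, 2, 1, 4, 6, 5, 1, 2, 3, 5, 4, 3, 2, 1, 6, 0, 1, 2, 3, 4, 2, 3, 0, 1, 1, 2, 4, 3, 6, 5, 1, 0, 2, 1, 2, 1, 5, 2, 3, 4, 3, 1, 0, 1, 2, 1],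
    [33, 33], [27, 32, 27, 32, 27, 32], [27, 34, 34, 30, 34], [27, 34, 27, 34, 27, 34], [27, 30],
    [14, 14], [39, 39], [14, 40, 40], [17, 17, 17], [11, 11, 11, 11], [11, 11, 19, 11, 11, 19],
    [11, 13, 19, 11, 19], [41, 41], [11, 11], [11, 42, 19, 42], [11, 41, 11, 19, 41, 19], [11, 19],
    [11, 41, 11, 41],
    [5, 1, 2, 3, 4, 2, 3, 2, 1, 5, 0, 1, 2, 3, 4, 1, 3, 4, 3, 2, 1, 3, 6, 1, 2, 3, 5, 1, 6, 3, 2, 1, 5, 3, 1, 2, 3, 4, 0, 1, 4, 3, 2, 1, 0, 5, 1, 2, 3, 2, 4, 3, 2, 1, 5],
    [1, 5, 6, 1, 5, 4, 3, 2, 3, 4, 2, 3, 2, 1, 1, 3, 4, 3, 2, 1, 3, 4, 5, 6, 1, 2, 6, 2, 1, 0, 1, 5, 4, 3, 1, 2, 3, 4, 1, 1, 3, 4, 3, 2, 6, 5, 1, 2, 3, 2, 4, 6, 0, 3, 4, 2, 3, 2, 1, 5, 1, 6, 2, 3, 4, 1, 1, 2, 3, 2, 4, 3, 2, 3, 4, 5, 1, 6, 5, 1],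
    [1, 5, 2, 1, 6, 1, 5, 2, 1, 1, 2, 1, 3, 2, 1, 3, 4, 3, 5, 1, 0, 1, 0, 2, 5, 6, 2, 1, 5, 4, 3, 2, 1, 6, 5, 4, 3, 2, 1, 1, 2, 3, 2, 4, 3, 2, 6, 1, 0, 2, 1, 3, 2, 3, 6, 2, 1, 5, 6, 2, 3, 4, 2, 3, 1, 2, 3, 4, 2, 3, 2, 1, 1, 2, 5, 1, 6, 1, 2, 5, 1],
    [6, 4, 1, 0, 1, 2, 3, 2, 1, 6, 4, 1, 1, 0, 4, 3, 2, 3, 6, 1, 2, 5, 1, 0, 1, 3, 6, 1, 2, 0, 1, 6, 1, 5, 3, 1, 2, 3, 1, 2, 3, 4, 3, 6, 1, 0, 1, 2, 6],
    [4, 3, 2, 2, 2, 1, 4, 2, 0, 0, 1, 3, 3, 2, 4, 2, 3, 1, 4, 0],
    [1, 2, 3, 2, 1, 4, 3, 2, 3, 2, 1, 0, 1, 0, 3, 2, 3, 1, 2, 3, 0, 1, 0, 1, 2, 3, 1, 2], [56, 56],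
    [58, 58, 58],
    [2, 3, 4, 2, 3, 1, 0, 1, 2, 3, 1, 2, 0, 1, 0, 2, 1, 3, 2, 1, 3, 2, 1, 0, 1, 1, 0, 1, 2, 3, 1, 2, 3, 1, 2, 0, 1, 2, 1, 3, 2, 1, 0, 1, 3, 2, 4, 3, 2],
    [2, 3, 4, 2, 3, 1, 0, 1, 2, 3, 1, 2, 0, 2, 1, 0, 1, 3, 2, 3, 2, 1, 0, 1, 2, 4, 4, 2, 1, 0, 1, 2, 3, 2, 3, 1, 0, 1, 2, 2, 1, 3, 2, 1, 0, 1, 0, 3, 2, 4, 3, 2]]

/-- The certificate at 2. -/
def certTwo : Schur.PrimeCert.Cert where
  p := 2
  n := 14
  rules := [
    ([0, 0], []), ([0, 1], [1, 0]), ([1, 1], []), ([0, 2], [2, 0]), ([1, 2], [2, 1]), ([2, 2], []),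
    ([0, 3], [3, 0]), ([1, 3], [3, 1]), ([2, 3], [3, 2]), ([3, 3], []), ([0, 4], [4, 0]),
    ([1, 4], [4, 1]), ([2, 4], [4, 2]), ([3, 4], [4, 3]), ([4, 4], [0]), ([0, 5], [5, 0]),
    ([1, 5], [5, 1]), ([2, 5], [5, 2]), ([3, 5], [5, 3]), ([4, 5], [5, 4, 0]), ([5, 5], [0]),
    ([0, 6], [6, 0]), ([1, 6], [6, 1]), ([2, 6], [6, 2]), ([3, 6], [6, 3, 0]), ([4, 6], [6, 4]),
    ([5, 6], [6, 5]), ([6, 6], [1]), ([0, 7], [7, 0]), ([1, 7], [7, 1]), ([2, 7], [7, 2, 0]),
    ([3, 7], [7, 3, 0]), ([4, 7], [7, 4]), ([5, 7], [7, 5]), ([6, 7], [7, 6, 1]), ([7, 7], [1, 0]),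
    ([0, 8], [8, 0]), ([1, 8], [8, 1]), ([2, 8], [8, 2]), ([3, 8], [8, 3, 0]), ([4, 8], [8, 4, 0]),
    ([5, 8], [8, 5]), ([6, 8], [8, 6, 2]), ([7, 8], [8, 7, 3, 2, 1]), ([8, 8], [2, 1, 0]),
    ([0, 9], [9, 0]), ([1, 9], [9, 1]), ([2, 9], [9, 2, 0]), ([3, 9], [9, 3]), ([4, 9], [9, 4]),
    ([5, 9], [9, 5, 2]), ([6, 9], [9, 6, 2, 1]), ([7, 9], [9, 7, 4, 3, 1]), ([8, 9], [9, 8, 3, 1, 0]),
    ([9, 9], [4, 3, 0]), ([0, 10], [10, 0]), ([1, 10], [10, 1]), ([2, 10], [10, 2, 0]),
    ([3, 10], [10, 3]), ([4, 10], [10, 4]), ([5, 10], [10, 5, 3]), ([6, 10], [10, 6, 4, 3, 2, 1, 0]),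
    ([7, 10], [10, 7, 4, 2, 1, 0]), ([8, 10], [10, 8, 4, 3, 2, 1, 0]), ([9, 10], [10, 9, 4, 2, 1, 0]),
    ([10, 10], []), ([0, 11], [11, 0]), ([1, 11], [11, 1]), ([2, 11], [11, 2]), ([3, 11], [11, 3, 0]),
    ([4, 11], [11, 4, 2, 0]), ([5, 11], [11, 5]), ([6, 11], [11, 6, 2, 1]), ([7, 11], [11, 7, 5, 3, 1]),
    ([8, 11], [11, 8, 1]), ([9, 11], [11, 9, 5, 3, 2, 1, 0]), ([10, 11], [11, 10, 8, 6, 4, 2, 0]),
    ([11, 11], [1, 0]), ([0, 12], [12, 0]), ([1, 12], [12, 1]), ([2, 12], [12, 2, 0]),
    ([3, 12], [12, 3, 2]), ([4, 12], [12, 4]), ([5, 12], [12, 5, 1]), ([6, 12], [12, 6]),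
    ([7, 12], [12, 7, 6, 1, 0]), ([8, 12], [12, 8, 3, 0]), ([9, 12], [12, 9, 6, 4, 3, 0]),
    ([10, 12], [12, 10, 9, 7, 3, 2, 1]), ([11, 12], [12, 11, 5, 3, 2]), ([12, 12], [6]),
    ([0, 13], [13, 0]), ([1, 13], [13, 1]), ([2, 13], [13, 2]), ([3, 13], [13, 3, 0]),
    ([4, 13], [13, 4, 3, 0]), ([5, 13], [13, 5]), ([6, 13], [13, 6, 5, 3]), ([7, 13], [13, 7, 5, 3, 0]),
    ([8, 13], [13, 8, 5, 3, 2]), ([9, 13], [13, 9, 8, 6, 5, 1, 0]), ([10, 13], [13, 10, 4, 2, 1]),
    ([11, 13], [13, 11, 5, 3, 2]), ([12, 13], [13, 12, 11, 6, 5, 2, 1, 0]), ([13, 13], [5]),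
    ([14, 0], [0, 14]), ([14, 1], [1, 14]), ([14, 2], [9, 7, 1, 14]), ([14, 3], [9, 7, 2, 1, 14]),
    ([14, 4], [9, 8, 7, 6, 0, 14]), ([14, 5], [12, 7, 4, 2, 14]), ([14, 7], [11, 8, 4, 3, 2, 0, 14]),
    ([14, 8, 6], [9, 7, 4, 1, 0, 14]), ([14, 9], [11, 10, 8, 4, 2, 1, 14]),
    ([14, 10], [10, 9, 8, 7, 6, 3, 2, 1, 14]), ([14, 13, 11], [8, 5, 3, 14]),
    ([15, 0], [8, 6, 5, 2, 0, 15]), ([15, 1], [8, 6, 5, 2, 1, 15]), ([15, 2], [3, 2, 0, 15]),
    ([15, 3], [3, 15]), ([15, 4], [11, 10, 7, 4, 3, 1, 15]), ([15, 5], [13, 11, 9, 7, 6, 1, 15]),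
    ([15, 8, 6], [13, 11, 9, 8, 7, 5, 3, 1, 0, 15]), ([15, 9, 7, 6], [13, 11, 10, 9, 5, 3, 2, 15]),
    ([15, 10, 7, 6], [13, 11, 10, 8, 7, 3, 1, 0, 15]), ([15, 11, 6], [10, 9, 8, 6, 5, 3, 15]),
    ([15, 13, 6], [11, 10, 9, 8, 4, 2, 0, 15])]
  eqs := [
    ([4, 4, 4], [(0, 14, true), (0, 10, true)], [(1, 14, true)]),
    ([1, 4, 4], [(0, 11, true), (1, 11, true), (0, 14, true), (0, 1, true)], [(1, 14, true)]),
    ([2, 4, 4], [(0, 12, true), (1, 12, true), (0, 14, true), (0, 3, true)], [(1, 14, true)]),
    ([3, 4, 4], [(0, 13, true), (1, 13, true), (0, 14, true), (0, 6, true)], [(1, 14, true)]),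
    ([5, 5, 5], [(0, 20, true), (0, 15, true)], [(1, 20, true)]),
    ([4, 4, 5], [(0, 14, true), (0, 15, true)], [(1, 19, true), (0, 19, true), (2, 10, true), (1, 14, true), (1, 0, true)]),
    ([6, 6, 6], [(0, 27, true), (0, 22, true)], [(1, 27, true)]),
    ([2, 6, 6], [(0, 23, true), (1, 23, true), (0, 27, true), (0, 4, true)], [(1, 27, true)]),
    ([3, 6, 6], [(0, 24, true), (2, 21, true), (1, 24, true), (0, 27, true), (0, 7, true), (2, 0, true)], [(1, 27, true)]),
    ([4, 4, 6], [(0, 14, true), (0, 21, true)], [(1, 25, true), (0, 25, true), (1, 14, true)]),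
    ([4, 6, 6], [(0, 25, true), (1, 25, true), (0, 27, true), (0, 11, true)], [(1, 27, true)]),
    ([5, 6, 6], [(0, 26, true), (1, 26, true), (0, 27, true), (0, 16, true)], [(1, 27, true)]),
    ([7, 7, 7], [(0, 35, true), (1, 28, true), (0, 29, true)], [(1, 35, true)]),
    ([2, 7, 7], [(0, 30, true), (2, 28, true), (1, 30, true), (0, 35, true), (1, 3, true), (0, 4, true), (2, 0, true)], [(1, 35, true)]),
    ([6, 6, 7], [(0, 27, true), (0, 29, true)], [(1, 34, true), (0, 34, true), (2, 22, true), (1, 27, true), (1, 2, true)]),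
    ([8, 8, 8], [(0, 44, true), (2, 36, true), (1, 37, true), (0, 38, true)], [(1, 44, true)]),
    ([3, 8, 8], [(0, 39, true), (2, 36, true), (1, 39, true), (0, 44, true), (2, 6, true), (1, 7, true), (0, 8, true), (3, 0, true)], [(1, 44, true)]),
    ([4, 4, 8], [(0, 14, true), (0, 36, true)], [(1, 40, true), (0, 40, true), (2, 10, true), (1, 14, true), (1, 0, true)]),
    ([4, 8, 8], [(0, 40, true), (2, 36, true), (1, 40, true), (0, 44, true), (2, 10, true), (1, 11, true), (0, 12, true), (3, 0, true)], [(1, 44, true)]),
    ([5, 8, 8], [(0, 41, true), (1, 41, true), (0, 44, true), (2, 15, true), (1, 16, true), (0, 17, true)], [(1, 44, true)]),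
    ([6, 6, 8], [(0, 27, true), (0, 37, true)], [(1, 42, true), (0, 42, true), (2, 23, true), (1, 27, true), (1, 4, true), (2, 4, true), (1, 5, true)]),
    ([7, 7, 8], [(0, 35, true), (1, 36, true), (0, 37, true)], [(1, 43, true), (0, 43, true), (4, 29, true), (3, 30, true), (2, 31, true), (1, 35, true), (2, 6, true), (1, 7, true), (3, 0, true), (2, 4, true), (4, 1, true), (3, 2, true), (3, 6, true), (2, 8, true), (1, 9, true), (2, 3, true), (1, 5, true), (1, 1, true)]),
    ([7, 8, 8], [(0, 43, true), (4, 37, true), (3, 38, true), (2, 39, true), (1, 43, true), (0, 44, true), (2, 28, true), (1, 29, true), (0, 30, true), (2, 1, true), (3, 0, true), (2, 7, true), (1, 8, true), (3, 4, true), (2, 5, true), (2, 2, true), (1, 9, true), (1, 3, true), (2, 1, true)], [(1, 44, true)]),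
    ([4, 7, 8], [(0, 32, true), (1, 40, true), (0, 43, true), (4, 11, true), (3, 12, true), (2, 13, true)], [(1, 43, true), (0, 40, true), (2, 28, true), (1, 32, true), (3, 6, true), (4, 3, true), (5, 1, true)]),
    ([5, 7, 8], [(0, 33, true), (1, 41, true), (0, 43, true), (4, 16, true), (3, 17, true), (2, 18, true)], [(1, 43, true), (0, 41, true), (1, 33, true)]),
    ([6, 7, 8], [(0, 34, true), (2, 37, true), (1, 42, true), (0, 43, true), (4, 22, true), (3, 23, true), (2, 24, true), (4, 3, true), (5, 1, true), (6, 3, true), (5, 4, true), (4, 5, true), (5, 1, true), (4, 2, true)], [(1, 43, true), (0, 42, true), (2, 30, true), (1, 34, true), (3, 4, true), (5, 6, true), (4, 7, true), (3, 8, true), (6, 3, true), (5, 4, true), (4, 5, true), (5, 1, true), (4, 2, true)]),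
    ([9, 9, 9], [(0, 54, true), (2, 45, true), (1, 48, true), (0, 49, true)], [(1, 54, true)]),
    ([2, 9, 9], [(0, 47, true), (2, 45, true), (1, 47, true), (0, 54, true), (2, 3, true), (3, 0, true)], [(1, 54, true), (0, 12, true), (1, 8, true)]),
    ([5, 5, 9], [(0, 20, true), (0, 45, true)], [(1, 50, true), (0, 50, true), (2, 17, true), (1, 20, true), (1, 3, true), (2, 3, true), (1, 5, true)]),
    ([5, 9, 9], [(0, 50, true), (2, 47, true), (1, 50, true), (0, 54, true), (2, 15, true), (1, 18, true), (0, 19, true), (2, 6, true), (3, 0, true), (3, 5, true)], [(1, 54, true)]),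
    ([6, 6, 9], [(0, 27, true), (0, 46, true)], [(1, 51, true), (0, 51, true), (3, 22, true), (2, 23, true), (1, 27, true), (1, 4, true), (2, 2, true), (1, 5, true)]),
    ([6, 9, 9], [(0, 51, true), (3, 46, true), (2, 47, true), (1, 51, true), (0, 54, true), (2, 21, true), (1, 24, true), (0, 25, true), (3, 0, true), (4, 4, true), (3, 5, true), (4, 1, true), (3, 2, true)], [(1, 54, true)]),
    ([5, 6, 9], [(0, 26, true), (1, 50, true), (0, 51, true), (3, 16, true), (2, 17, true), (4, 4, true), (3, 5, true)], [(1, 51, true), (0, 50, true), (2, 23, true), (1, 26, true), (3, 5, true)]),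
    ([7, 7, 9], [(0, 35, true), (1, 45, true), (0, 46, true)], [(1, 52, true), (0, 52, true), (4, 29, true), (3, 31, true), (2, 32, true), (1, 35, true), (2, 10, true), (1, 11, true), (3, 6, true), (2, 7, true), (4, 0, true), (3, 2, true), (2, 13, true), (1, 14, true), (1, 6, true), (2, 6, true), (1, 9, true), (1, 1, true)]),
    ([5, 7, 9], [(0, 33, true), (1, 50, true), (0, 52, true), (4, 16, true), (3, 18, true), (2, 19, true), (4, 6, true), (5, 1, true), (6, 3, true), (5, 4, true)], [(1, 52, true), (0, 50, true), (2, 30, true), (1, 33, true), (4, 10, true), (3, 12, true), (5, 6, true), (4, 8, true), (6, 1, true)]),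
    ([8, 9, 9], [(0, 53, true), (4, 45, true), (3, 46, true), (2, 48, true), (1, 53, true), (0, 54, true), (2, 36, true), (1, 39, true), (0, 40, true), (2, 6, true), (3, 0, true), (3, 6, true), (2, 9, true), (2, 1, true), (3, 0, true), (2, 7, true), (3, 2, true)], [(1, 54, true)]),
    ([2, 10, 10], [(0, 57, true), (2, 55, true), (1, 57, true), (0, 65, true), (1, 0, true)], [(1, 65, true)]),
    ([5, 5, 10], [(0, 20, true), (0, 55, true)], [(1, 60, true), (0, 60, true), (2, 18, true), (1, 20, true), (1, 6, true), (2, 6, true), (1, 9, true)]),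
    ([5, 10, 10], [(0, 60, true), (2, 58, true), (1, 60, true), (0, 65, true), (1, 9, true)], [(1, 65, true)]),
    ([6, 6, 10], [(0, 27, true), (0, 56, true)], [(1, 61, true), (0, 61, true), (6, 21, true), (5, 22, true), (4, 23, true), (3, 24, true), (2, 25, true), (1, 27, true), (1, 11, true), (2, 7, true), (4, 3, true), (3, 4, true), (5, 1, true), (4, 2, true), (4, 0, true), (3, 12, true), (2, 13, true), (1, 14, true), (1, 6, true), (2, 3, true), (3, 6, true), (2, 8, true), (1, 9, true), (2, 3, true), (1, 5, true), (1, 1, true), (2, 0, true)]),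
    ([6, 10, 10], [(0, 61, true), (6, 55, true), (5, 56, true), (4, 57, true), (3, 58, true), (2, 59, true), (1, 61, true), (0, 65, true), (5, 10, true), (4, 11, true), (3, 12, true), (2, 13, true), (1, 14, true), (1, 6, true), (2, 3, true), (3, 1, true), (4, 0, true), (3, 7, true), (2, 8, true), (1, 9, true), (2, 4, true), (1, 5, true), (2, 1, true), (1, 2, true), (1, 0, true)], [(1, 65, true)]),
    ([7, 7, 10], [(0, 35, true), (1, 55, true), (0, 56, true)], [(1, 62, true), (0, 62, true), (5, 28, true), (4, 29, true), (3, 30, true), (2, 32, true), (1, 35, true), (2, 10, true), (1, 11, true), (3, 3, true), (2, 4, true), (4, 0, true), (3, 2, true), (3, 10, true), (2, 12, true), (1, 14, true), (1, 3, true), (2, 0, true), (1, 5, true)]),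
    ([8, 8, 10], [(0, 44, true), (2, 55, true), (1, 56, true), (0, 57, true), (2, 1, true), (3, 0, true)], [(1, 63, true), (0, 63, true), (6, 36, true), (5, 37, true), (4, 38, true), (3, 39, true), (2, 40, true), (1, 44, true), (3, 10, true), (2, 11, true), (1, 12, true), (4, 0, true), (3, 7, true), (2, 8, true), (5, 3, true), (4, 4, true), (3, 5, true), (4, 1, true), (3, 2, true), (3, 0, true), (2, 13, true), (1, 14, true), (1, 6, true), (2, 6, true), (1, 9, true), (1, 3, true), (2, 1, true), (3, 0, true)]),
    ([6, 9, 10], [(0, 51, true), (3, 56, true), (2, 57, true), (1, 61, true), (0, 64, true), (5, 21, true), (4, 22, true), (3, 23, true), (2, 25, true), (6, 10, true), (5, 11, true), (4, 12, true), (3, 14, true), (3, 3, true), (4, 1, true), (5, 0, true), (4, 7, true), (3, 8, true), (5, 4, true), (4, 5, true), (4, 2, true), (4, 3, true), (5, 0, true)], [(1, 64, true), (0, 61, true), (6, 45, true), (5, 46, true), (4, 47, true), (3, 48, true), (2, 49, true), (1, 51, true), (4, 11, true), (3, 12, true), (5, 7, true), (4, 8, true), (6, 4, true), (5,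 5, true), (6, 1, true), (5, 2, true), (5, 0, true), (4, 13, true), (3, 14, true), (3, 6, true), (4, 3, true), (5, 1, true), (6, 0, true)]),
    ([11, 11, 11], [(0, 77, true), (1, 66, true), (0, 67, true)], [(1, 77, true)]),
    ([3, 11, 11], [(0, 69, true), (2, 66, true), (1, 69, true), (0, 77, true), (1, 6, true), (0, 7, true), (2, 0, true)], [(1, 77, true)]),
    ([4, 11, 11], [(0, 70, true), (3, 66, true), (2, 68, true), (1, 70, true), (0, 77, true), (1, 10, true), (0, 11, true), (2, 3, true), (1, 4, true), (3, 0, true), (2, 4, true), (1, 5, true)], [(1, 77, true)]),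
    ([7, 7, 11], [(0, 35, true), (1, 66, true), (0, 67, true)], [(1, 73, true), (0, 73, true), (4, 29, true), (3, 31, true), (2, 33, true), (1, 35, true), (2, 15, true), (1, 16, true), (3, 6, true), (2, 7, true), (4, 0, true), (3, 2, true), (2, 18, true), (1, 20, true), (1, 6, true), (2, 6, true), (1, 9, true), (1, 1, true)]),
    ([7, 11, 11], [(0, 73, true), (4, 67, true), (3, 69, true), (2, 71, true), (1, 73, true), (0, 77, true), (1, 28, true), (0, 29, true), (2, 15, true), (1, 16, true), (3, 6, true), (2, 7, true), (4, 1, true), (3, 2, true), (3, 15, true), (2, 18, true), (1, 20, true), (1, 6, true), (2, 0, true), (1, 9, true), (1, 1, true)], [(1, 77, true)]),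
    ([6, 7, 11], [(0, 34, true), (2, 67, true), (1, 72, true), (0, 73, true), (4, 22, true), (3, 24, true), (2, 26, true), (5, 1, true), (6, 3, true), (5, 4, true), (7, 1, true), (6, 2, true), (6, 1, true)], [(1, 73, true), (0, 72, true), (3, 29, true), (2, 30, true), (1, 34, true), (3, 4, true), (5, 1, true), (4, 2, true), (4, 15, true), (3, 17, true), (5, 6, true), (4, 8, true), (6, 1, true)]),
    ([7, 8, 11], [(0, 43, true), (4, 67, true), (3, 68, true), (2, 69, true), (1, 73, true), (0, 74, true), (2, 29, true), (3, 16, true), (4, 7, true), (5, 2, true), (4, 9, true), (4, 3, true), (5, 1, true)], [(1, 74, true), (0, 73, true), (4, 37, true), (3, 39, true), (2, 41, true), (1, 43, true), (5, 16, true), (4, 17, true), (3, 18, true), (6, 7, true), (5, 8, true), (4, 9, true), (6, 1, true), (5, 2, true), (5, 1, true)]),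
    ([9, 9, 11], [(0, 54, true), (2, 66, true), (1, 69, true), (0, 70, true), (3, 6, true), (2, 8, true), (4, 0, true)], [(1, 75, true), (0, 75, true), (6, 45, true), (5, 46, true), (4, 47, true), (3, 48, true), (2, 50, true), (1, 54, true), (3, 15, true), (2, 18, true), (1, 19, true), (3, 6, true), (4, 0, true), (4, 8, true), (3, 9, true), (3, 5, true), (3, 1, true), (4, 0, true), (3, 16, true), (2, 19, true), (1, 20, true), (1, 10, true), (2, 0, true), (2, 7, true), (3, 4, true), (4, 2, true)]),
    ([10, 10, 11], [(0, 65, true)], [(1, 76, true), (0, 76, true), (6, 55, true), (5, 57, true), (4, 59, true), (3, 61, true), (2, 63, true), (1, 65, true), (6, 21, true), (5, 22, true), (4, 23, true), (3, 24, true), (2, 25, true), (5, 3, true), (6, 1, true), (7, 0, true), (6, 11, true), (5, 12, true), (4, 13, true), (3, 14, true), (3, 6, true), (4, 3, true), (5, 1, true), (6, 6, true), (5, 7, true), (4, 8, true), (3, 9, true), (5, 3, true), (4, 4, true), (3, 5, true), (4, 1, true), (3, 2, true), (3, 0, true), (5, 0, true), (4, 38, true), (3, 40, true),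 (2, 42, true), (1, 44, true), (3, 21, true), (2, 22, true), (1, 23, true), (4, 3, true), (3, 4, true), (2, 5, true), (3, 10, true), (2, 11, true), (4, 0, true), (3, 4, true), (4, 22, true), (3, 23, true), (2, 25, true), (1, 27, true), (1, 11, true), (2, 4, true), (3, 2, true), (2, 12, true), (1, 14, true), (1, 3, true), (2, 3, true), (1, 5, true), (1, 0, true)]),
    ([10, 11, 11], [(0, 76, true), (6, 66, true), (5, 68, true), (4, 70, true), (3, 72, true), (2, 74, true), (1, 76, true), (0, 77, true), (1, 55, true), (0, 56, true), (2, 36, true), (1, 37, true), (3, 21, true), (2, 22, true), (4, 10, true), (3, 11, true), (5, 3, true), (4, 4, true), (6, 0, true), (5, 37, true), (4, 38, true), (3, 40, true), (2, 42, true), (1, 44, true), (3, 21, true), (2, 22, true), (1, 23, true), (4, 3, true), (3, 4, true), (2, 5, true), (3, 10, true), (2, 11, true), (4, 0, true), (3, 4, true), (4, 2, true), (4, 22, true), (3, 23, true), (2, 25, true), (1, 27, true), (1, 11, true), (2, 4, true), (3, 2, true), (2, 5, true), (2, 11, true), (1, 14, true), (1, 1, true),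 (2, 3, true), (1, 4, true), (3, 0, true), (2, 4, true), (1, 5, true)], [(1, 77, true)]),
    ([6, 10, 11], [(0, 61, true), (6, 66, true), (5, 67, true), (4, 68, true), (3, 69, true), (2, 70, true), (1, 72, true), (0, 76, true), (6, 21, true), (5, 23, true), (4, 25, true), (3, 27, true), (3, 11, true), (4, 4, true), (6, 3, true), (5, 4, true), (4, 5, true), (5, 1, true), (4, 2, true), (4, 10, true), (3, 14, true), (3, 0, true), (4, 6, true), (3, 8, true), (5, 0, true), (4, 5, true)], [(1, 76, true), (0, 72, true), (3, 56, true), (2, 57, true), (1, 61, true), (7, 3, true), (6, 4, true), (5, 5, true), (6, 0, true), (5, 2, true), (4, 39, true), (3, 40, true), (2, 42, true), (4, 12, true), (6, 6, true), (5, 8, true), (7, 0, true), (6, 23, true), (5, 24, true), (4, 25, true), (3, 27, true), (3, 11, true), (4, 7, true), (6, 3, true), (5, 4, true), (7, 10, true), (6, 11, true), (5, 12, true), (4, 13, true), (3, 14, true), (3, 6, true), (4, 3, true), (5, 1, true), (6, 0, true), (5, 4, true), (4, 5, true)]),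
    ([7, 10, 11], [(0, 62, true), (5, 66, true), (4, 67, true), (3, 68, true), (2, 70, true), (1, 73, true), (0, 76, true), (6, 28, true), (5, 30, true), (4, 32, true), (3, 34, true), (5, 11, true), (6, 4, true), (8, 0, true), (7, 16, true), (6, 17, true), (5, 19, true), (7, 3, true), (8, 1, true), (9, 6, true), (8, 7, true), (7, 8, true), (10, 1, true), (9, 2, true), (9, 10, true), (8, 12, true), (7, 13, true), (6, 14, true), (6, 6, true), (7, 3, true), (8, 0, true), (7, 5, true), (7, 3, true), (8, 1, true), (9, 0, true)], [(1, 76, true), (0, 73, true), (4, 56, true), (3, 58, true), (2, 60, true), (1, 62, true), (6, 15, true), (5, 16, true), (4, 17, true), (3, 19, true), (5, 3, true), (6, 1, true), (7, 0, true), (6, 7, true), (5, 8, true), (7, 7, true), (6, 8, true), (5, 9, true), (6, 2, true), (5, 38, true), (4, 40, true), (3, 41, true), (2, 43, true), (6, 16, true), (5, 17, true), (4, 18, true), (7, 11, true), (6, 12, true), (5, 13, true), (9, 3, true), (8, 4, true), (7, 5, true), (8, 21, true), (7, 22, true), (6, 24, true), (5, 25, true), (4,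 26, true), (8, 1, true), (9, 0, true), (8, 11, true), (7, 13, true), (6, 14, true), (6, 6, true), (7, 1, true), (8, 3, true), (7, 4, true), (9, 0, true)]),
    ([9, 10, 11], [(0, 64, true), (5, 66, true), (4, 67, true), (3, 68, true), (2, 70, true), (1, 75, true), (0, 76, true), (6, 45, true), (5, 47, true), (4, 49, true), (3, 51, true), (2, 53, true), (6, 21, true), (5, 22, true), (4, 24, true), (6, 1, true), (7, 0, true), (6, 4, true), (7, 2, true), (6, 12, true), (5, 13, true), (7, 5, true), (7, 0, true), (6, 18, true), (5, 19, true), (7, 6, true), (8, 6, true), (7, 9, true), (7, 3, true), (8, 1, true), (9, 0, true), (8, 11, true), (7, 12, true), (6, 14, true), (6, 3, true), (7, 1, true), (8, 3, true), (7, 4, true), (6, 5, true), (7, 0, true), (6, 4, true), (7, 2, true)], [(1, 76, true), (0, 75, true), (6, 55, true), (5, 56, true), (4, 57, true), (3, 58, true), (2, 60, true), (1, 64, true), (6, 15, true), (5, 16, true), (4, 17, true), (3, 19, true), (5, 3, true), (6, 1, true), (7, 0, true), (6, 7, true), (5, 8, true), (7, 7, true), (6, 8, true),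 (5, 9, true), (6, 4, true), (5, 5, true), (6, 1, true), (5, 2, true), (5, 0, true), (4, 40, true), (3, 41, true), (6, 21, true), (5, 25, true), (4, 26, true), (7, 10, true), (6, 14, true), (6, 0, true)]),
    ([12, 12, 12], [(0, 90, true), (0, 84, true)], [(1, 90, true)]),
    ([2, 12, 12], [(0, 80, true), (2, 78, true), (1, 80, true), (0, 90, true), (2, 0, true)], [(1, 90, true), (0, 23, true)]),
    ([3, 12, 12], [(0, 81, true), (2, 80, true), (1, 81, true), (0, 90, true), (2, 5, true)], [(1, 90, true), (0, 24, true)]),
    ([5, 12, 12], [(0, 83, true), (2, 79, true), (1, 83, true), (0, 90, true), (2, 2, true)], [(1, 90, true), (0, 26, true)]),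
    ([7, 7, 12], [(0, 35, true), (1, 78, true), (0, 79, true)], [(1, 85, true), (0, 85, true), (4, 28, true), (3, 29, true), (2, 34, true), (1, 35, true), (2, 21, true), (1, 22, true), (3, 1, true), (2, 2, true), (2, 1, true), (3, 0, true), (2, 22, true), (1, 27, true), (1, 2, true)]),
    ([8, 12, 12], [(0, 86, true), (3, 78, true), (2, 81, true), (1, 86, true), (0, 90, true), (0, 42, true), (2, 8, true), (4, 6, true), (3, 8, true), (2, 9, true), (3, 3, true), (2, 5, true), (2, 0, true)], [(1, 90, true)]),
    ([9, 9, 12], [(0, 54, true), (2, 78, true), (1, 81, true), (0, 82, true)], [(1, 87, true), (0, 87, true), (5, 45, true), (4, 48, true), (3, 49, true), (2, 51, true), (1, 54, true), (3, 21, true), (2, 24, true), (1, 25, true), (4, 0, true), (5, 11, true), (4, 12, true), (3, 13, true), (2, 14, true), (2, 6, true), (3, 3, true), (4, 1, true), (5, 6, true), (4, 7, true), (3, 8, true), (2, 9, true), (4, 0, true), (3, 22, true), (2, 23, true), (1, 27, true), (1, 4, true), (2, 2, true), (1, 12, true), (2, 8, true)]),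
    ([10, 10, 12], [(0, 65, true)], [(1, 88, true), (0, 88, true), (6, 56, true), (5, 57, true), (4, 58, true), (3, 62, true), (2, 64, true), (1, 65, true), (5, 28, true), (4, 29, true), (3, 30, true), (2, 32, true), (5, 1, true), (6, 0, true), (5, 11, true), (4, 12, true), (3, 14, true), (3, 3, true), (4, 1, true), (5, 3, true), (4, 4, true), (3, 5, true), (4, 1, true), (3, 2, true), (3, 0, true), (5, 1, true), (6, 45, true), (5, 46, true), (4, 47, true), (3, 48, true), (2, 52, true), (1, 54, true), (3, 28, true), (2, 31, true), (1, 32, true), (4, 0, true), (3, 13, true), (2, 14, true), (2, 6, true), (3, 6, true), (2, 9, true), (2, 1, true), (3, 6, true), (2, 7, true), (4, 3, true), (3, 4, true), (5, 0, true), (4, 2, true), (4, 28, true), (3, 30, true), (2, 31, true), (1, 35, true), (2, 6, true), (1, 7, true), (3, 0, true), (2, 4, true), (4, 0, true), (3, 7, true), (2, 8, true), (1, 9, true), (2, 4, true), (1, 5, true), (1, 2, true)]),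
    ([10, 12, 12], [(0, 88, true), (6, 79, true), (5, 80, true), (4, 81, true), (3, 85, true), (2, 87, true), (1, 88, true), (0, 90, true), (0, 61, true), (6, 45, true), (5, 46, true), (4, 47, true), (3, 48, true), (2, 49, true), (1, 51, true), (4, 11, true), (3, 12, true), (5, 7, true), (4, 8, true), (6, 4, true), (5, 5, true), (6, 1, true), (5, 2, true), (5, 0, true), (4, 31, true), (3, 32, true), (2, 34, true), (4, 11, true), (5, 7, true), (7, 6, true), (6, 7, true), (5, 9, true), (6, 3, true), (5, 4, true), (7, 1, true), (6, 2, true), (6, 45, true), (5, 47, true), (4, 49, true), (3, 51, true), (2, 52, true), (1, 54, true), (3, 28, true), (2, 31, true), (1, 32, true), (4, 0, true), (3, 13, true), (2, 14, true), (2, 6, true), (3, 6, true), (2, 9, true), (2, 1, true), (3, 21, true), (2, 22, true), (4, 3, true), (3, 4, true), (5, 1, true), (4, 2, true), (4, 10, true), (3, 12, true), (5, 3, true), (4, 5, true), (4, 0, true), (4, 21, true), (3, 25, true), (2, 27, true), (2, 11, true), (4, 10, true), (3, 11, true), (2, 14, true), (2, 1, true), (3, 0,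 true), (2, 7, true), (4, 28, true), (3, 29, true), (2, 31, true), (1, 35, true), (2, 6, true), (1, 7, true), (3, 0, true), (2, 2, true), (2, 21, true), (1, 24, true), (3, 0, true), (4, 6, true), (3, 7, true), (2, 9, true), (3, 3, true), (2, 4, true), (4, 3, true), (3, 4, true), (2, 5, true), (3, 0, true), (2, 2, true)], [(1, 90, true)]),
    ([7, 10, 12], [(0, 62, true), (5, 78, true), (4, 79, true), (3, 80, true), (2, 82, true), (1, 85, true), (0, 88, true), (6, 29, true), (5, 30, true), (4, 31, true), (3, 35, true), (4, 6, true), (3, 7, true), (5, 0, true), (4, 4, true), (6, 1, true), (5, 2, true), (5, 21, true), (4, 23, true), (3, 24, true), (5, 3, true), (6, 0, true), (7, 10, true), (6, 11, true), (5, 12, true), (4, 13, true), (8, 3, true), (7, 4, true), (6, 5, true), (7, 0, true), (6, 2, true)], [(1, 88, true), (0, 85, true), (4, 55, true), (3, 56, true), (2, 61, true), (1, 62, true), (6, 21, true), (5, 22, true), (4, 23, true), (3, 25, true), (7, 10, true), (6, 11, true), (5, 12, true), (4, 14, true), (4, 3, true), (5, 1, true), (6, 0, true),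 (5, 7, true), (4, 8, true), (6, 4, true), (5, 5, true), (5, 2, true), (5, 1, true), (6, 0, true), (5, 46, true), (4, 48, true), (3, 51, true), (2, 52, true), (6, 22, true), (5, 24, true), (4, 25, true), (7, 1, true), (8, 3, true), (7, 4, true), (9, 1, true), (8, 2, true), (8, 6, true), (7, 8, true), (6, 9, true), (7, 1, true), (8, 28, true), (7, 29, true), (6, 30, true), (5, 32, true), (4, 34, true), (3, 35, true), (4, 21, true), (3, 22, true), (5, 1, true), (4, 2, true), (4, 10, true), (5, 3, true), (6, 0, true), (7, 6, true), (6, 7, true), (5, 8, true), (8, 3, true), (7, 4, true), (6, 5, true), (7, 1, true), (6, 2, true)]),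
    ([11, 12, 12], [(0, 89, true), (4, 80, true), (3, 81, true), (2, 83, true), (1, 89, true), (0, 90, true), (0, 72, true), (3, 16, true), (2, 17, true), (4, 7, true), (3, 8, true), (5, 4, true), (4, 5, true), (4, 16, true), (3, 18, true), (2, 20, true), (2, 6, true), (3, 1, true), (4, 1, true), (3, 2, true), (3, 6, true), (2, 9, true), (2, 3, true), (3, 3, true), (2, 5, true), (2, 0, true)], [(1, 90, true)]),
    ([10, 11, 12], [(0, 76, true), (6, 78, true), (5, 80, true), (4, 82, true), (3, 84, true), (2, 86, true), (1, 88, true), (0, 89, true), (4, 57, true), (3, 58, true), (2, 60, true), (4, 9, true), (5, 45, true), (4, 47, true), (3, 50, true), (5, 5, true), (5, 0, true), (4, 33, true), (8, 37, true), (7, 38, true), (6, 39, true), (5, 41, true), (4, 43, true), (8, 16, true), (7, 17, true), (6, 18, true), (9, 7, true), (8, 8, true), (7, 9, true), (9, 3, true), (8, 4, true), (7, 5, true), (8, 1, true), (7, 2, true), (7, 6, true), (8, 0, true), (7, 24, true), (6, 26, true), (9, 10, true), (8, 13, true), (10, 3, true), (11, 0, true)], [(1, 89, true),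 (0, 88, true), (6, 67, true), (5, 68, true), (4, 69, true), (3, 73, true), (2, 75, true), (1, 76, true), (7, 45, true), (6, 47, true), (5, 49, true), (4, 51, true), (3, 53, true), (7, 21, true), (6, 22, true), (5, 24, true), (7, 1, true), (8, 0, true), (7, 4, true), (8, 2, true), (7, 12, true), (6, 13, true), (8, 5, true), (8, 0, true), (7, 18, true), (6, 19, true), (8, 6, true), (9, 6, true), (8, 9, true), (8, 3, true), (9, 1, true), (10, 0, true), (9, 29, true), (8, 30, true), (7, 32, true), (6, 33, true), (5, 34, true), (7, 16, true), (8, 11, true), (9, 4, true), (11, 1, true), (10, 2, true), (10, 15, true), (9, 17, true), (8, 19, true), (7, 20, true), (7, 10, true), (8, 0, true), (9, 6, true), (8, 8, true), (10, 1, true), (11, 6, true), (10, 7, true), (9, 8, true), (8, 9, true), (10, 0, true), (9, 4, true), (8, 5, true), (8, 2, true), (7, 19, true), (9, 6, true), (10, 3, true)]),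
    ([13, 13, 13], [(0, 104, true), (0, 96, true)], [(1, 104, true)]),
    ([3, 13, 13], [(0, 94, true), (2, 91, true), (1, 94, true), (0, 104, true), (2, 0, true)], [(1, 104, true), (0, 18, true)]),
    ([4, 13, 13], [(0, 95, true), (3, 91, true), (2, 94, true), (1, 95, true), (0, 104, true), (3, 6, true), (2, 9, true), (2, 0, true)], [(1, 104, true), (0, 19, true)]),
    ([6, 6, 13], [(0, 27, true), (0, 92, true)], [(1, 97, true), (0, 97, true), (3, 24, true), (2, 26, true), (1, 27, true), (1, 16, true), (2, 7, true), (4, 15, true), (3, 16, true), (2, 18, true), (1, 20, true), (1, 6, true), (2, 1, true), (3, 0, true), (2, 7, true), (1, 9, true)]),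
    ([6, 13, 13], [(0, 97, true), (3, 94, true), (2, 96, true), (1, 97, true), (0, 104, true), (0, 26, true), (1, 20, true), (1, 6, true), (2, 15, true), (1, 18, true), (3, 6, true), (2, 9, true), (2, 0, true)], [(1, 104, true)]),
    ([8, 8, 13], [(0, 44, true), (2, 91, true), (1, 92, true), (0, 93, true)], [(1, 99, true), (0, 99, true), (4, 38, true), (3, 39, true), (2, 41, true), (1, 44, true), (3, 15, true), (2, 16, true), (1, 17, true), (4, 6, true), (3, 7, true), (2, 8, true), (5, 0, true), (4, 4, true), (3, 5, true), (3, 16, true), (2, 18, true), (1, 20, true), (1, 6, true), (2, 1, true), (3, 6, true), (2, 7, true), (1, 9, true), (2, 3, true), (1, 4, true)]),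
    ([9, 9, 13], [(0, 54, true), (2, 91, true), (1, 94, true), (0, 95, true), (3, 6, true), (2, 9, true), (2, 0, true)], [(1, 100, true), (0, 100, true), (6, 45, true), (5, 46, true), (4, 50, true), (3, 51, true), (2, 53, true), (1, 54, true), (3, 36, true), (2, 39, true), (1, 40, true), (3, 6, true), (4, 0, true), (4, 6, true), (3, 9, true), (3, 1, true), (4, 0, true), (3, 22, true), (2, 25, true), (4, 4, true), (5, 2, true), (4, 17, true), (3, 19, true), (5, 3, true), (6, 3, true), (5, 5, true), (5, 1, true), (6, 0, true), (5, 37, true), (4, 40, true), (3, 41, true), (2, 42, true), (1, 44, true), (3, 21, true), (2, 22, true), (1, 23, true), (4, 3, true), (3, 4, true), (2, 5, true), (3, 15, true), (2, 16, true), (4, 10, true), (3, 11, true), (5, 0, true), (4, 2, true), (3, 25, true), (2, 26, true), (1, 27, true), (1, 16, true), (2, 11, true), (3, 16, true), (2, 19, true), (1, 20, true), (1, 10, true), (2, 0, true), (2, 2, true)]),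
    ([9, 13, 13], [(0, 100, true), (6, 91, true), (5, 92, true), (4, 96, true), (3, 97, true), (2, 99, true), (1, 100, true), (0, 104, true), (0, 50, true), (2, 38, true), (1, 41, true), (3, 23, true), (2, 26, true), (4, 17, true), (3, 20, true), (3, 3, true), (4, 1, true), (5, 0, true), (4, 37, true), (3, 38, true), (2, 42, true), (1, 44, true), (3, 21, true), (2, 22, true), (1, 23, true), (4, 3, true), (3, 4, true), (2, 5, true), (3, 3, true), (2, 4, true), (4, 1, true), (3, 2, true), (3, 15, true), (2, 17, true), (4, 6, true), (3, 8, true), (5, 3, true), (4, 5, true), (4, 21, true), (3, 24, true), (2, 26, true), (1, 27, true), (1, 16, true), (2, 7, true), (4, 0, true), (3, 16, true), (2, 18, true), (1, 20, true), (1, 6, true), (2, 1, true), (3, 6, true), (2, 7, true), (1, 9, true), (2, 15, true), (1, 16, true), (3, 1, true), (2, 2, true), (2, 0, true)], [(1, 104, true)]),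
    ([7, 9, 13], [(0, 52, true), (4, 92, true), (3, 94, true), (2, 95, true), (1, 98, true), (0, 100, true), (6, 28, true), (5, 29, true), (4, 33, true), (3, 34, true), (5, 16, true), (6, 2, true), (6, 15, true), (5, 20, true), (5, 0, true), (6, 10, true), (5, 13, true), (7, 6, true), (6, 9, true), (6, 0, true), (7, 1, true)], [(1, 100, true), (0, 98, true), (4, 45, true), (3, 48, true), (2, 50, true), (1, 52, true), (5, 16, true), (4, 18, true), (3, 19, true), (5, 6, true), (6, 1, true), (7, 3, true), (6, 4, true), (8, 6, true), (7, 7, true), (6, 8, true), (5, 9, true), (7, 0, true), (6, 37, true), (5, 38, true), (4, 40, true), (3, 41, true), (2, 43, true), (6, 16, true), (5, 17, true), (4, 18, true), (7, 11, true), (6, 12, true), (5, 13, true), (9, 3, true), (8, 4, true), (7, 5, true), (8, 1, true), (7, 2, true), (7, 21, true), (6, 24, true), (5, 25, true), (4, 26, true), (8, 0, true), (7, 18, true), (6, 19, true), (5, 20, true), (5, 10, true), (6, 0, true)]),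
    ([6, 11, 13], [(0, 72, true), (3, 92, true), (2, 93, true), (1, 97, true), (0, 102, true), (4, 23, true), (3, 24, true), (2, 26, true), (5, 3, true), (6, 15, true), (5, 17, true), (4, 18, true), (3, 20, true), (3, 6, true), (4, 3, true), (5, 0, true), (4, 8, true), (3, 9, true), (3, 5, true)], [(1, 102, true), (0, 97, true), (3, 69, true), (2, 71, true), (1, 72, true), (4, 16, true), (3, 17, true), (5, 7, true), (4, 8, true), (7, 15, true), (6, 16, true), (5, 17, true), (4, 18, true), (3, 20, true), (3, 6, true), (4, 3, true), (5, 1, true), (6, 0, true), (5, 7, true), (4, 8, true), (3, 9, true), (4, 4, true), (3, 5, true)]),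
    ([12, 12, 13], [(0, 90, true), (0, 97, true)], [(1, 103, true), (0, 103, true), (7, 78, true), (6, 79, true), (5, 80, true), (4, 83, true), (3, 84, true), (2, 89, true), (1, 90, true), (1, 72, true), (4, 16, true), (3, 17, true), (5, 7, true), (4, 8, true), (6, 4, true), (5, 5, true), (5, 22, true), (4, 24, true), (3, 26, true), (2, 27, true), (2, 16, true), (3, 7, true), (5, 1, true), (4, 2, true), (4, 15, true), (3, 18, true), (2, 20, true), (2, 6, true), (3, 0, true), (3, 4, true), (5, 1, true), (4, 2, true), (4, 0, true), (3, 68, true), (2, 69, true), (1, 77, true), (2, 6, true), (1, 7, true), (3, 0, true), (2, 4, true), (3, 22, true), (2, 23, true), (1, 24, true), (3, 3, true), (4, 1, true), (5, 15, true), (4, 16, true), (3, 17, true), (2, 18, true), (6, 3, true), (5, 4, true), (4, 5, true), (5, 1, true), (4, 2, true), (4, 0, true)]),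
    ([12, 13, 13], [(0, 103, true), (7, 91, true), (6, 92, true), (5, 93, true), (4, 96, true), (3, 97, true), (2, 102, true), (1, 103, true), (0, 104, true), (0, 83, true), (2, 67, true), (1, 71, true), (3, 22, true), (2, 26, true), (4, 16, true), (3, 20, true), (3, 1, true), (4, 3, true), (3, 4, true), (5, 1, true), (4, 2, true), (4, 0, true), (3, 68, true), (2, 72, true), (1, 77, true), (2, 21, true), (1, 22, true), (3, 3, true), (2, 4, true), (4, 1, true), (3, 2, true), (3, 3, true), (2, 5, true), (2, 15, true), (3, 6, true), (4, 3, true), (5, 21, true), (4, 23, true), (3, 24, true), (2, 26, true), (1, 27, true), (1, 16, true), (2, 7, true), (4, 3, true), (3, 4, true), (5, 0, true), (4, 16, true), (3, 17, true), (2, 18, true), (1, 20, true), (1, 6, true), (2, 3, true), (3, 1, true), (4, 6, true), (3, 7, true), (2, 8, true), (1, 9, true), (3, 15, true), (2, 16, true), (1, 17, true), (4, 3, true), (3, 4, true), (2, 5, true), (3, 1, true), (2, 2, true), (2, 0, true)], [(1, 104, true)]),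
    ([7, 12, 13], [(0, 85, true), (4, 91, true), (3, 92, true), (2, 97, true), (1, 98, true), (0, 103, true), (7, 28, true), (6, 29, true), (5, 30, true), (4, 33, true), (3, 34, true), (5, 16, true), (6, 4, true), (8, 1, true), (7, 2, true), (7, 0, true), (6, 17, true), (5, 20, true), (5, 3, true), (6, 6, true), (5, 8, true), (7, 0, true), (6, 23, true), (5, 24, true), (4, 27, true), (4, 7, true), (6, 3, true), (5, 4, true), (7, 15, true), (6, 16, true), (5, 17, true), (4, 18, true), (8, 6, true), (7, 7, true), (6, 8, true), (5, 9, true), (7, 1, true), (6, 2, true), (6, 0, true)], [(1, 103, true), (0, 98, true), (4, 78, true), (3, 81, true), (2, 83, true), (1, 85, true), (5, 15, true), (4, 16, true), (6, 1, true), (5, 2, true), (5, 6, true), (6, 3, true), (7, 0, true), (6, 68, true), (5, 69, true), (4, 71, true), (3, 72, true), (2, 73, true), (6, 22, true), (5, 24, true), (4, 26, true), (7, 1, true), (8, 3, true), (7, 4, true), (9, 1, true), (8, 2, true), (8, 15, true), (7, 17, true), (6, 18, true), (5, 20, true), (5, 6, true), (6, 3, true), (7, 0,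 true), (6, 8, true), (5, 9, true), (6, 3, true), (5, 5, true), (5, 21, true), (4, 27, true), (5, 15, true), (4, 16, true), (6, 3, true), (5, 4, true), (7, 1, true), (6, 2, true), (6, 0, true)]),
    ([10, 12, 13], [(0, 88, true), (6, 92, true), (5, 93, true), (4, 94, true), (3, 98, true), (2, 100, true), (1, 101, true), (0, 103, true), (7, 55, true), (6, 56, true), (5, 57, true), (4, 60, true), (3, 61, true), (9, 15, true), (8, 16, true), (7, 17, true), (6, 18, true), (5, 19, true), (7, 6, true), (8, 3, true), (9, 1, true), (10, 0, true), (9, 7, true), (8, 8, true), (7, 9, true), (8, 4, true), (7, 5, true), (8, 1, true), (7, 2, true), (7, 0, true), (6, 14, true), (6, 3, true), (7, 1, true), (8, 45, true), (7, 46, true), (6, 47, true), (5, 50, true), (4, 51, true), (7, 16, true), (6, 17, true), (8, 4, true), (7, 5, true), (7, 4, true), (9, 1, true), (8, 2, true), (8, 0, true), (7, 38, true), (6, 41, true), (5, 42, true), (7, 17, true), (8, 5, true), (7, 26, true), (6, 27, true), (6, 16, true), (7, 16, true), (6, 20, true), (6, 1, true), (7, 1, true),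 (6, 2, true), (6, 0, true), (9, 6, true), (8, 9, true), (8, 0, true)], [(1, 103, true), (0, 101, true), (4, 79, true), (3, 80, true), (2, 82, true), (1, 88, true), (7, 11, true), (6, 12, true), (5, 13, true), (8, 4, true), (7, 5, true), (8, 1, true), (7, 2, true), (7, 66, true), (6, 69, true), (5, 70, true), (4, 73, true), (3, 75, true), (2, 76, true), (8, 45, true), (7, 47, true), (6, 49, true), (5, 51, true), (4, 53, true), (8, 21, true), (7, 22, true), (6, 24, true), (8, 1, true), (9, 0, true), (8, 4, true), (9, 2, true), (8, 12, true), (7, 13, true), (9, 5, true), (9, 0, true), (8, 18, true), (7, 19, true), (9, 6, true), (10, 6, true), (9, 9, true), (9, 3, true), (10, 1, true), (11, 0, true), (10, 29, true), (9, 30, true), (8, 32, true), (7, 33, true), (6, 34, true), (8, 16, true), (9, 11, true), (10, 4, true), (12, 1, true), (11, 2, true), (11, 15, true), (10, 17, true), (9, 19, true), (8, 20, true), (8, 10, true), (9, 0, true), (10, 6, true), (9, 8, true), (11, 1, true), (12, 10, true), (11, 11, true), (10, 12, true), (9, 13, true), (8, 14,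 true), (8, 6, true), (9, 3, true), (10, 1, true), (11, 0, true), (10, 4, true), (9, 5, true), (10, 6, true), (9, 7, true), (8, 9, true), (9, 0, true), (9, 21, true), (8, 22, true), (7, 27, true), (7, 2, true), (7, 15, true), (8, 3, true), (9, 1, true), (10, 0, true)]),
    ([14, 2, 2], [(0, 107, true), (3, 107, true), (2, 46, true), (1, 52, true), (0, 54, true), (2, 28, true), (1, 31, true), (0, 32, true), (3, 0, true), (2, 13, true), (1, 14, true), (1, 6, true), (2, 6, true), (1, 9, true), (1, 1, true), (2, 1, true), (1, 2, true), (1, 28, true), (0, 35, true), (1, 0, true), (0, 2, true)], [(1, 5, true)]),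
    ([14, 4, 4], [(0, 109, true), (5, 109, true), (4, 45, true), (3, 51, true), (2, 52, true), (1, 53, true), (0, 54, true), (2, 36, true), (1, 39, true), (0, 40, true), (2, 6, true), (3, 0, true), (3, 6, true), (2, 9, true), (2, 1, true), (3, 0, true), (2, 29, true), (1, 32, true), (3, 11, true), (2, 14, true), (2, 1, true), (3, 6, true), (2, 7, true), (4, 1, true), (3, 2, true), (3, 21, true), (2, 24, true), (4, 0, true), (6, 36, true), (5, 37, true), (4, 38, true), (3, 39, true), (2, 42, true), (1, 43, true), (0, 44, true), (2, 28, true), (1, 29, true), (0, 30, true), (2, 1, true), (3, 0, true), (2, 7, true), (1, 8, true), (3, 4, true), (2, 5, true), (2, 2, true), (1, 24, true), (3, 3, true), (4, 6, true), (3, 8, true), (2, 9, true), (3, 0, true), (2, 5, true), (3, 28, true), (2, 29, true), (1, 34, true), (0, 35, true), (1, 21, true), (0, 22, true), (2, 1, true), (1, 2, true), (1, 1, true), (2, 0, true), (1, 22, true), (0, 27, true), (0, 2, true)], [(1, 14, true), (0, 105, true)]),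
    ([14, 5, 5], [(0, 110, true), (4, 110, true), (3, 80, true), (2, 82, true), (1, 85, true), (0, 90, true), (0, 34, true), (2, 22, true), (1, 27, true), (1, 2, true), (2, 10, true), (1, 11, true), (3, 3, true), (2, 4, true), (4, 0, true), (3, 29, true), (2, 30, true), (1, 32, true), (0, 35, true), (1, 10, true), (0, 11, true), (2, 3, true), (1, 4, true), (3, 0, true), (2, 2, true), (1, 12, true), (0, 14, true), (0, 3, true), (1, 3, true), (0, 5, true)], [(1, 20, true), (0, 105, true)]),
    ([14, 4, 5], [(0, 109, true), (5, 110, true), (4, 78, true), (3, 84, true), (2, 85, true), (1, 86, true), (0, 87, true), (5, 36, true), (4, 39, true), (3, 40, true), (2, 42, true), (4, 12, true), (6, 6, true), (5, 8, true), (7, 0, true), (7, 6, true), (6, 8, true), (5, 9, true), (6, 0, true), (5, 30, true), (4, 32, true), (3, 34, true), (5, 11, true), (6, 4, true), (8, 21, true), (7, 22, true), (6, 23, true), (5, 25, true), (4, 27, true), (4, 11, true), (5, 4, true), (6, 2, true), (6, 1, true), (7, 0, true), (6, 22, true), (5, 23, true), (4, 25, true), (8, 28,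 true), (7, 29, true), (6, 30, true), (5, 32, true), (4, 34, true), (3, 35, true), (4, 21, true), (3, 22, true), (5, 1, true), (4, 2, true), (4, 10, true), (5, 3, true), (6, 0, true), (7, 10, true), (6, 11, true), (5, 12, true), (4, 14, true), (4, 3, true), (5, 1, true), (6, 0, true), (5, 4, true), (4, 5, true)], [(1, 19, true), (0, 110, true), (4, 109, true), (9, 105, true), (3, 47, true), (2, 49, true), (1, 52, true), (5, 11, true), (4, 13, true), (3, 14, true), (3, 6, true), (4, 1, true), (5, 3, true), (4, 4, true), (6, 0, true), (5, 37, true), (4, 38, true), (3, 39, true), (2, 43, true), (6, 7, true), (5, 8, true), (4, 9, true), (6, 3, true), (5, 4, true), (4, 5, true), (5, 1, true), (4, 2, true), (4, 28, true), (3, 35, true), (4, 0, true), (3, 22, true), (5, 0, true)]),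
    ([14, 7, 7], [(0, 111, true), (6, 111, true), (5, 66, true), (4, 68, true), (3, 69, true), (2, 70, true), (1, 74, true), (0, 77, true), (1, 36, true), (0, 37, true), (2, 1, true), (1, 2, true), (1, 10, true), (2, 3, true), (3, 0, true), (2, 8, true), (4, 3, true), (3, 5, true), (3, 0, true), (2, 39, true), (1, 40, true), (0, 44, true), (2, 10, true), (1, 11, true), (0, 12, true), (3, 0, true), (2, 7, true), (1, 8, true), (4, 10, true), (3, 11, true), (2, 12, true), (1, 13, true), (0, 14, true), (0, 6, true), (1, 3, true), (2, 1, true), (3, 0, true), (2, 7, true), (1, 8, true), (0, 9, true), (1, 4, true), (0, 5, true)], [(1, 35, true), (0, 106, true), (1, 105, true)]),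
    ([14, 5, 7], [(0, 110, true), (4, 111, true), (3, 68, true), (2, 70, true), (1, 73, true), (5, 11, true), (4, 13, true), (6, 4, true), (8, 3, true), (7, 4, true), (6, 5, true), (7, 36, true), (6, 37, true), (5, 39, true), (4, 40, true), (3, 41, true), (2, 43, true), (6, 16, true), (5, 17, true), (4, 18, true), (7, 11, true), (6, 12, true), (5, 13, true), (9, 6, true), (8, 7, true), (7, 8, true), (6, 9, true), (8, 0, true), (7, 2, true), (7, 10, true), (6, 12, true), (5, 14, true), (5, 3, true), (6, 0, true), (5, 8, true), (6, 5, true)], [(1, 33, true), (0, 111, true), (6, 110, true), (5, 78, true), (4, 80, true), (3, 81, true), (2, 82, true), (1, 86, true), (0, 89, true), (4, 38, true), (3, 39, true), (2, 41, true), (5, 3, true), (6, 6, true), (5, 8, true), (4, 9, true), (5, 0, true), (4, 12, true), (5, 8, true), (6, 5, true), (7, 0, true), (6, 30, true), (5, 31, true), (4, 32, true), (3, 33, true), (7, 3, true), (8, 0, true), (7, 12, true), (6, 13, true), (5, 14, true), (5, 6, true), (6, 3, true), (7, 3, true), (6, 5, true)]),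
    ([14, 5, 8, 6], [(0, 110, true), (4, 112, true), (3, 47, true), (2, 49, true), (1, 52, true), (5, 11, true), (4, 13, true), (3, 14, true), (3, 6, true), (4, 1, true), (5, 3, true), (4, 4, true), (6, 0, true), (5, 29, true), (4, 30, true), (3, 31, true), (2, 35, true), (3, 6, true), (2, 7, true), (4, 0, true), (3, 4, true), (5, 1, true), (4, 2, true), (4, 10, true), (3, 12, true), (2, 13, true), (5, 1, true), (6, 0, true)], [(1, 41, true), (2, 26, true), (0, 112, true), (5, 110, true), (4, 78, true), (3, 79, true), (2, 82, true), (1, 85, true), (0, 87, true), (5, 28, true), (4, 31, true), (3, 32, true), (2, 34, true), (4, 11, true), (5, 7, true), (7, 0, true), (6, 22, true), (5, 24, true), (4, 25, true), (3, 27, true), (3, 11, true), (4, 7, true), (6, 1, true), (5, 2, true), (5, 1, true), (6, 0, true), (5, 11, true), (4, 13, true), (3, 14, true), (3, 6, true), (4, 1, true), (5, 1, true), (4, 2, true), (4, 0, true), (3, 31, true), (2, 35, true), (3, 6, true), (2, 7, true), (4, 0, true), (3, 11, true), (2, 13, true), (4, 4, true)]),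
    ([14, 7, 8, 6], [(0, 111, true), (6, 112, true), (5, 45, true), (4, 47, true), (3, 48, true), (2, 49, true), (1, 53, true), (5, 10, true), (4, 11, true), (3, 13, true), (6, 6, true), (5, 7, true), (4, 9, true), (5, 3, true), (4, 4, true), (6, 0, true), (6, 28, true), (5, 29, true), (4, 30, true), (3, 32, true), (6, 1, true), (7, 0, true), (6, 11, true), (5, 12, true), (4, 14, true), (4, 3, true), (5, 1, true), (6, 1, true), (5, 2, true), (5, 0, true)], [(1, 43, true), (5, 22, true), (4, 23, true), (3, 24, true), (5, 3, true), (6, 1, true), (5, 4, false), (4, 7, false), (2, 34, false), (0, 112, true), (5, 111, true), (11, 108, true), (15, 107, true), (18, 105, true), (4, 66, true), (3, 67, true), (2, 70, true), (1, 73, true), (0, 75, true), (6, 28, true), (5, 29, true), (4, 30, true), (3, 31, true), (2, 33, true), (5, 3, true), (6, 0, true), (7, 15, true), (6, 16, true), (5, 17, true), (4, 18, true), (3, 20, true), (3, 6, true), (4, 3, true), (5, 1, true), (6, 0, true), (5, 7, true), (4, 8, true), (3, 9, true), (4, 2, true), (3, 12, true), (4,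 5, true), (4, 1, true), (5, 0, true), (4, 37, true), (3, 40, true), (2, 43, true), (6, 11, true), (5, 12, true), (4, 13, true), (8, 1, true), (7, 2, true), (7, 10, true), (6, 12, true), (5, 13, true), (4, 14, true), (4, 6, true), (5, 3, true), (6, 0, true), (5, 8, true), (4, 9, true), (4, 5, true), (4, 45, true), (3, 52, true), (2, 53, true), (1, 54, true), (3, 36, true), (2, 39, true), (1, 40, true), (3, 6, true), (4, 0, true), (4, 6, true), (3, 9, true), (3, 1, true), (4, 0, true), (3, 29, true), (2, 32, true), (4, 11, true), (3, 14, true), (3, 1, true), (4, 6, true), (3, 7, true), (5, 1, true), (4, 2, true), (4, 0, true), (3, 31, true), (2, 35, true), (3, 6, true), (2, 7, true), (4, 0, true), (3, 4, true), (4, 2, true), (3, 47, true), (2, 48, true), (1, 53, true), (5, 6, true), (4, 7, true), (3, 9, true), (4, 3, true), (3, 4, true), (5, 0, true), (4, 29, true), (3, 30, true), (5, 1, true), (6, 1, true), (5, 2, true), (5, 0, true)]),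
    ([14, 9, 9], [(0, 113, true), (6, 113, true), (5, 67, true), (4, 68, true), (3, 70, true), (2, 74, true), (1, 76, true), (0, 77, true), (1, 55, true), (0, 56, true), (2, 36, true), (1, 37, true), (3, 21, true), (2, 22, true), (4, 10, true), (3, 11, true), (5, 3, true), (4, 4, true), (6, 0, true), (5, 37, true), (4, 38, true), (3, 40, true), (2, 42, true), (1, 44, true), (3, 21, true), (2, 22, true), (1, 23, true), (4, 3, true), (3, 4, true), (2, 5, true), (3, 10, true), (2, 11, true), (4, 0, true), (3, 4, true), (4, 2, true), (4, 11, true), (3, 12, true), (2, 14, true), (2, 3, true), (3, 1, true), (4, 3, true), (3, 4, true), (2, 5, true), (3, 0, true), (2, 4, true), (3, 2, true), (2, 57, true), (1, 61, true), (0, 65, true), (5, 3, true), (4, 4, true), (3, 5, true), (4, 0, true), (3, 37, true), (2, 39, true), (1, 40, true), (0, 42, true), (2, 12, true), (4, 6, true), (3, 8, true), (5, 0, true), (5, 11, true), (4, 12, true), (3, 13, true), (2, 14, true), (2, 6, true), (3, 3, true), (4, 1, true), (5, 3, true), (4, 4, true), (3, 5, true), (4, 1, true),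 (3, 2, true)], [(1, 54, true), (0, 109, true), (5, 108, true), (9, 105, true), (4, 45, true), (3, 51, true), (2, 52, true), (1, 53, true), (0, 54, true), (2, 36, true), (1, 39, true), (0, 40, true), (2, 6, true), (3, 0, true), (3, 6, true), (2, 9, true), (2, 1, true), (3, 0, true), (2, 29, true), (1, 32, true), (3, 11, true), (2, 14, true), (2, 1, true), (3, 6, true), (2, 7, true), (4, 1, true), (3, 2, true), (3, 21, true), (2, 24, true), (4, 0, true), (6, 28, true), (5, 29, true), (4, 30, true), (3, 31, true), (2, 34, true), (1, 35, true), (2, 21, true), (1, 22, true), (3, 1, true), (2, 2, true), (2, 6, true), (3, 0, true), (4, 1, true), (5, 0, true), (4, 4, true), (3, 5, true), (3, 2, true)]),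
    ([14, 5, 9], [(0, 110, true), (4, 113, true), (3, 68, true), (2, 70, true), (1, 73, true), (5, 11, true), (4, 13, true), (6, 4, true), (8, 3, true), (7, 4, true), (6, 5, true), (7, 55, true), (6, 56, true), (5, 58, true), (4, 59, true), (3, 60, true), (2, 62, true), (7, 15, true), (6, 16, true), (5, 17, true), (4, 19, true), (6, 3, true), (7, 1, true), (8, 0, true), (7, 7, true), (6, 8, true), (8, 11, true), (7, 12, true), (6, 13, true), (5, 14, true), (5, 6, true), (6, 3, true), (7, 1, true), (8, 6, true), (7, 7, true), (6, 8, true), (5, 9, true), (7, 1, true), (6, 2, true), (6, 0, true), (5, 38, true), (4, 41, true), (3, 43, true), (7, 16, true), (6, 17, true), (5, 18, true), (8, 4, true), (7, 5, true), (7, 11, true), (6, 13, true), (8, 4, true), (9, 2, true)], [(1, 50, true), (0, 113, true), (6, 110, true), (10, 107, true), (5, 79, true), (4, 80, true), (3, 82, true), (2, 86, true), (1, 88, true), (0, 89, true), (4, 57, true), (3, 58, true), (2, 60, true), (4, 9, true), (5, 45, true), (4, 47, true), (3, 50, true), (5, 5, true), (5, 0, true),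 (4, 33, true), (8, 37, true), (7, 38, true), (6, 39, true), (5, 41, true), (4, 43, true), (8, 16, true), (7, 17, true), (6, 18, true), (9, 7, true), (8, 8, true), (7, 9, true), (9, 3, true), (8, 4, true), (7, 5, true), (8, 1, true), (7, 2, true), (7, 6, true), (8, 0, true), (7, 13, true), (10, 1, true), (11, 28, true), (10, 29, true), (9, 30, true), (8, 31, true), (7, 32, true), (6, 33, true), (5, 35, true), (6, 15, true), (5, 16, true), (7, 10, true), (6, 11, true), (8, 6, true), (7, 7, true), (9, 0, true), (8, 4, true), (10, 1, true), (9, 2, true), (9, 0, true), (8, 12, true), (7, 13, true), (6, 14, true), (6, 6, true), (7, 3, true), (8, 3, true), (7, 5, true), (7, 45, true), (6, 48, true), (5, 50, true), (4, 53, true), (3, 54, true), (5, 36, true), (4, 39, true), (3, 40, true), (5, 6, true), (6, 0, true), (6, 6, true), (5, 9, true), (5, 1, true), (6, 0, true), (5, 16, true), (4, 19, true), (6, 1, true), (7, 3, true), (6, 4, true), (8, 6, true), (7, 7, true), (6, 8, true), (9, 0, true), (8, 29, true), (7, 30, true), (6, 31, true), (5, 32, true),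 (4, 33, true), (8, 3, true), (9, 0, true), (9, 2, true)]),
    ([14, 7, 9], [(0, 111, true), (6, 113, true), (5, 66, true), (4, 68, true), (3, 69, true), (2, 70, true), (1, 74, true), (0, 77, true), (1, 36, true), (0, 37, true), (2, 1, true), (1, 2, true), (1, 10, true), (2, 3, true), (3, 0, true), (2, 8, true), (4, 3, true), (3, 5, true), (3, 0, true), (2, 58, true), (1, 59, true), (0, 63, true), (6, 10, true), (5, 11, true), (4, 12, true), (3, 13, true), (2, 14, true), (2, 6, true), (3, 3, true), (4, 1, true), (5, 0, true), (4, 7, true), (3, 8, true), (2, 9, true), (3, 37, true), (2, 38, true), (1, 44, true), (3, 3, true), (2, 4, true), (1, 5, true), (2, 1, true), (1, 2, true), (1, 10, true), (2, 3, true), (3, 1, true)], [(1, 52, true), (0, 113, true), (6, 111, true), (12, 109, true), (17, 108, true), (21, 106, true), (5, 67, true), (4, 68, true), (3, 70, true), (2, 74, true), (1, 76, true), (0, 77, true), (1, 55, true), (0, 56, true), (2, 36, true), (1, 37, true), (3, 21, true), (2, 22, true), (4, 10, true), (3, 11, true), (5, 3, true), (4, 4,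 true), (6, 0, true), (5, 37, true), (4, 38, true), (3, 40, true), (2, 42, true), (1, 44, true), (3, 21, true), (2, 22, true), (1, 23, true), (4, 3, true), (3, 4, true), (2, 5, true), (3, 10, true), (2, 11, true), (4, 0, true), (3, 4, true), (4, 2, true), (4, 11, true), (3, 12, true), (2, 14, true), (2, 3, true), (3, 1, true), (4, 3, true), (3, 4, true), (2, 5, true), (3, 0, true), (2, 4, true), (3, 2, true), (2, 38, true), (1, 42, true), (3, 5, true), (6, 45, true), (5, 47, true), (4, 48, true), (3, 49, true), (2, 51, true), (1, 53, true), (5, 21, true), (4, 22, true), (3, 24, true), (5, 1, true), (6, 0, true), (5, 4, true), (6, 2, true), (5, 12, true), (4, 13, true), (6, 8, true), (5, 9, true), (5, 5, true), (5, 0, true), (4, 40, true), (3, 42, true), (2, 44, true), (4, 21, true), (3, 22, true), (2, 23, true), (5, 3, true), (4, 4, true), (3, 5, true), (4, 10, true), (3, 11, true), (5, 0, true), (4, 29, true), (3, 32, true), (2, 34, true), (4, 11, true), (5, 2, true), (4, 25, true), (3, 27, true), (3, 11, true), (5, 45, true), (4, 46, true), (3, 49,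 true), (2, 52, true), (1, 54, true), (3, 28, true), (2, 31, true), (1, 32, true), (4, 0, true), (3, 13, true), (2, 14, true), (2, 6, true), (3, 6, true), (2, 9, true), (2, 1, true), (3, 10, true), (2, 11, true), (4, 1, true), (3, 2, true), (3, 0, true), (2, 32, true), (1, 35, true), (2, 10, true), (1, 11, true), (3, 3, true), (2, 4, true), (4, 1, true), (3, 2, true), (3, 1, true)]),
    ([14, 7, 10], [(0, 111, true), (6, 114, true), (5, 55, true), (4, 57, true), (3, 58, true), (2, 59, true), (1, 63, true), (7, 10, true), (6, 11, true), (5, 12, true), (4, 13, true), (3, 14, true), (3, 6, true), (4, 3, true), (5, 1, true), (6, 0, true), (5, 7, true), (4, 8, true), (3, 9, true), (4, 4, true), (3, 5, true), (4, 0, true), (3, 46, true), (2, 53, true), (6, 1, true), (5, 2, true), (5, 36, true), (4, 39, true), (3, 44, true), (5, 6, true), (4, 7, true), (3, 8, true), (6, 0, true), (6, 28, true), (5, 29, true), (4, 30, true), (3, 31, true), (5, 3, true), (6, 0, true), (7, 21, true), (6, 22, true), (5, 23, true), (4, 24, true), (6, 3, true), (7, 1, true), (8,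 0, true), (7, 7, true), (6, 8, true), (5, 9, true), (6, 4, true), (5, 5, true), (5, 2, true)], [(1, 62, true), (0, 114, true), (8, 111, true), (14, 109, true), (19, 107, true), (22, 106, true), (23, 105, true), (7, 67, true), (6, 68, true), (5, 69, true), (4, 72, true), (3, 73, true), (2, 74, true), (1, 75, true), (0, 76, true), (6, 45, true), (5, 47, true), (4, 49, true), (3, 51, true), (2, 53, true), (6, 21, true), (5, 22, true), (4, 24, true), (6, 1, true), (7, 0, true), (6, 4, true), (7, 2, true), (6, 12, true), (5, 13, true), (7, 5, true), (7, 0, true), (6, 18, true), (5, 19, true), (7, 6, true), (8, 6, true), (7, 9, true), (7, 3, true), (8, 1, true), (9, 0, true), (8, 37, true), (7, 38, true), (6, 40, true), (5, 41, true), (4, 42, true), (3, 44, true), (5, 21, true), (4, 22, true), (3, 23, true), (6, 3, true), (5, 4, true), (4, 5, true), (5, 15, true), (4, 16, true), (6, 10, true), (5, 11, true), (7, 0, true), (6, 4, true), (7, 2, true), (7, 29, true), (6, 30, true), (5, 32, true), (4, 33, true), (3, 34, true), (5, 16, true), (6, 11, true),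 (7, 4, true), (9, 1, true), (8, 2, true), (8, 15, true), (7, 17, true), (6, 19, true), (5, 20, true), (5, 10, true), (6, 0, true), (7, 6, true), (6, 8, true), (8, 1, true), (9, 21, true), (8, 22, true), (7, 23, true), (6, 24, true), (5, 25, true), (4, 27, true), (4, 11, true), (5, 7, true), (7, 3, true), (6, 4, true), (8, 1, true), (7, 2, true), (7, 0, true), (6, 5, true), (6, 7, true), (5, 9, true), (6, 3, true), (5, 4, true), (7, 1, true), (6, 2, true), (6, 36, true), (5, 38, true), (4, 40, true), (3, 43, true), (7, 11, true), (6, 12, true), (5, 13, true), (9, 3, true), (8, 4, true), (7, 5, true), (8, 0, true), (7, 11, true), (6, 13, true), (5, 14, true), (5, 6, true), (6, 1, true), (7, 6, true), (6, 7, true), (5, 9, true), (6, 3, true), (5, 4, true), (7, 0, true), (6, 46, true), (5, 47, true), (4, 52, true), (3, 53, true), (2, 54, true), (4, 36, true), (3, 39, true), (2, 40, true), (4, 6, true), (5, 0, true), (5, 6, true), (4, 9, true), (4, 1, true), (5, 0, true), (4, 29, true), (3, 32, true), (5, 11, true), (4, 14, true), (4, 1, true), (5, 6,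 true), (4, 7, true), (6, 1, true), (5, 2, true), (5, 3, true), (6, 0, true), (6, 37, true), (5, 38, true), (4, 39, true), (3, 43, true), (2, 44, true), (4, 28, true), (3, 29, true), (2, 30, true), (4, 1, true), (5, 0, true), (4, 7, true), (3, 8, true), (5, 4, true), (4, 5, true), (4, 2, true), (3, 9, true), (3, 3, true), (4, 1, true), (5, 28, true), (4, 29, true), (3, 30, true), (2, 35, true), (3, 3, true), (2, 4, true), (4, 0, true), (3, 2, true), (3, 21, true), (2, 23, true), (4, 0, true), (3, 47, true), (2, 51, true), (5, 4, true), (4, 5, true), (5, 28, true), (4, 29, true), (3, 34, true), (5, 2, true), (5, 1, true), (6, 1, true), (5, 2, true), (5, 0, true)]),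
    ([14, 13, 11, 13, 11], [(0, 115, true), (3, 115, true), (2, 39, true), (1, 41, true), (0, 44, true), (2, 15, true), (1, 16, true), (0, 17, true), (3, 6, true), (2, 7, true), (1, 8, true), (4, 0, true), (3, 16, true), (2, 17, true), (1, 18, true), (0, 20, true), (0, 6, true), (1, 3, true), (2, 1, true), (3, 6, true), (2, 7, true), (1, 8, true), (0, 9, true)], [(2, 102, true), (1, 104, true), (1, 71, true), (2, 20, true), (2, 6, true), (3, 3, true), (4, 66, true), (3, 68, true), (2, 69, true), (1, 77, true), (2, 6, true), (1, 7, true), (3, 0, true), (2, 4, true), (0, 108, true), (4, 107, true), (7, 106, true), (8, 105, true), (3, 46, true), (2, 47, true), (1, 52, true), (0, 54, true), (2, 28, true), (1, 31, true), (0, 32, true), (3, 0, true), (2, 13, true), (1, 14, true), (1, 6, true), (2, 6, true), (1, 9, true), (1, 1, true), (2, 3, true), (1, 4, true), (3, 0, true), (2, 2, true), (1, 30, true), (0, 35, true), (1, 3, true), (0, 4, true), (2, 0, true), (1, 2, true)]),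
    ([14, 5, 13, 11], [(0, 110, true), (4, 115, true), (3, 38, true), (2, 40, true), (1, 43, true), (5, 11, true), (4, 12, true), (3, 13, true), (7, 3, true), (6, 4, true), (5, 5, true), (6, 15, true), (5, 16, true), (4, 18, true), (3, 19, true), (5, 6, true), (6, 1, true), (7, 0, true), (6, 7, true), (5, 9, true)], [(1, 96, true), (2, 71, true), (0, 115, true), (3, 110, true), (2, 81, true), (1, 83, true), (0, 86, true), (3, 15, true), (2, 18, true), (4, 1, true), (5, 6, true), (4, 7, true), (3, 9, true), (4, 3, true), (3, 4, true), (5, 28, true), (4, 29, true), (3, 30, true), (2, 33, true), (5, 1, true), (6, 0, true), (5, 11, true), (4, 12, true), (6, 4, true), (5, 5, true)]),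
    ([14, 7, 13, 11], [(0, 111, true), (6, 115, true), (5, 36, true), (4, 38, true), (3, 39, true), (2, 40, true), (1, 44, true), (3, 10, true), (2, 11, true), (1, 12, true), (4, 0, true), (3, 7, true), (2, 8, true), (5, 3, true), (4, 4, true), (3, 5, true), (4, 0, true), (3, 16, true), (2, 18, true), (1, 19, true), (3, 6, true), (4, 1, true), (5, 6, true), (4, 7, true), (3, 9, true)], [(1, 98, true), (5, 66, true), (4, 69, true), (3, 71, true), (2, 73, true), (6, 16, true), (5, 18, true), (4, 20, true), (4, 6, true), (5, 1, true), (6, 6, true), (5, 7, true), (4, 9, true), (5, 0, true), (0, 115, true), (3, 111, true), (9, 106, true), (10, 105, true), (2, 69, true), (1, 71, true), (0, 74, true), (2, 16, true), (3, 7, true), (5, 36, true), (4, 37, true), (3, 39, true), (2, 41, true), (1, 44, true), (3, 15, true), (2, 16, true), (1, 17, true), (4, 6, true), (3, 7, true), (2, 8, true), (5, 0, true), (4, 2, true), (4, 10, true), (3, 12, true), (2, 13, true), (5, 6, true), (4, 8, true), (3, 9, true), (4, 3, true), (3, 5, true), (3, 0, true)]),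
    ([14, 9, 13, 11], [(0, 113, true), (6, 115, true), (5, 37, true), (4, 38, true), (3, 40, true), (2, 44, true), (4, 10, true), (3, 11, true), (2, 12, true), (5, 0, true), (4, 4, true), (3, 5, true), (3, 2, true), (2, 19, true), (4, 6, true)], [(1, 100, true), (7, 66, true), (6, 67, true), (5, 71, true), (4, 72, true), (3, 74, true), (2, 75, true), (8, 36, true), (7, 37, true), (6, 38, true), (5, 39, true), (4, 41, true), (7, 3, true), (8, 1, true), (9, 0, true), (8, 2, true), (7, 23, true), (6, 24, true), (5, 26, true), (8, 3, true), (9, 3, true), (8, 5, true), (8, 1, true), (9, 15, true), (8, 16, true), (7, 18, true), (6, 20, true), (6, 6, true), (7, 1, true), (8, 0, true), (7, 2, true), (0, 115, true), (3, 113, true), (9, 112, true), (14, 108, true), (18, 105, true), (2, 69, true), (1, 71, true), (0, 74, true), (2, 16, true), (3, 7, true), (5, 55, true), (4, 56, true), (3, 58, true), (2, 60, true), (1, 63, true), (7, 15, true), (6, 16, true), (5, 17, true), (4, 18, true), (3, 19, true), (5, 6, true), (6, 3, true), (7, 1, true), (8, 0, true),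 (7, 7, true), (6, 8, true), (5, 9, true), (6, 7, true), (5, 8, true), (7, 2, true), (7, 36, true), (6, 38, true), (5, 39, true), (4, 40, true), (3, 41, true), (2, 44, true), (4, 15, true), (3, 16, true), (2, 17, true), (5, 10, true), (4, 11, true), (3, 12, true), (6, 0, true), (5, 7, true), (4, 8, true), (7, 3, true), (6, 4, true), (5, 5, true), (6, 0, true), (5, 11, true), (4, 13, true), (3, 14, true), (3, 6, true), (4, 1, true), (5, 3, true), (4, 4, true), (6, 1, true), (5, 2, true), (5, 45, true), (4, 47, true), (3, 48, true), (2, 50, true), (4, 8, true), (5, 5, true), (5, 0, true), (4, 31, true), (3, 33, true), (6, 10, true), (5, 13, true), (7, 1, true), (8, 0, true), (7, 46, true), (6, 48, true), (5, 49, true), (4, 50, true), (3, 52, true), (2, 54, true), (4, 28, true), (3, 31, true), (2, 32, true), (5, 0, true), (4, 13, true), (3, 14, true), (3, 6, true), (4, 6, true), (3, 9, true), (3, 1, true), (4, 15, true), (3, 16, true), (5, 3, true), (4, 4, true), (6, 10, true), (5, 11, true), (4, 12, true), (7, 6, true), (6, 7, true), (5, 8, true), (8,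 1, true), (7, 2, true), (7, 28, true), (6, 30, true), (5, 31, true), (4, 32, true), (3, 33, true), (2, 35, true), (3, 15, true), (2, 16, true), (4, 10, true), (3, 11, true), (5, 6, true), (4, 7, true), (6, 0, true), (5, 4, true), (7, 0, true), (6, 4, true), (5, 5, true), (5, 2, true)]),
    ([14, 10, 13, 11], [(0, 114, true), (8, 115, true), (7, 37, true), (6, 38, true), (5, 39, true), (4, 42, true), (3, 43, true), (2, 44, true), (4, 28, true), (3, 29, true), (2, 30, true), (4, 1, true), (5, 0, true), (4, 7, true), (3, 8, true), (5, 4, true), (4, 5, true), (4, 2, true), (3, 24, true), (5, 3, true), (6, 6, true), (5, 8, true), (4, 9, true), (5, 0, true), (4, 5, true), (4, 16, true), (5, 7, true)], [(1, 101, true), (5, 67, true), (4, 68, true), (3, 70, true), (2, 76, true), (8, 10, true), (7, 12, true), (6, 14, true), (6, 3, true), (7, 0, true), (6, 5, true), (6, 3, true), (7, 1, true), (0, 115, true), (3, 114, true), (11, 112, true), (16, 107, true), (19, 106, true), (20, 105, true), (2, 58, true), (1, 60, true), (0, 63, true), (6, 15, true), (5, 16,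 true), (4, 17, true), (3, 18, true), (2, 19, true), (4, 6, true), (5, 3, true), (6, 1, true), (7, 0, true), (6, 7, true), (5, 8, true), (4, 9, true), (5, 7, true), (4, 8, true), (6, 46, true), (5, 47, true), (4, 48, true), (3, 49, true), (2, 50, true), (1, 53, true), (5, 15, true), (4, 16, true), (3, 18, true), (6, 3, true), (5, 4, true), (7, 10, true), (6, 11, true), (5, 12, true), (4, 13, true), (8, 6, true), (7, 7, true), (6, 8, true), (5, 9, true), (7, 3, true), (6, 4, true), (5, 5, true), (6, 0, true), (5, 2, true), (4, 40, true), (3, 41, true), (2, 44, true), (4, 15, true), (3, 16, true), (2, 17, true), (5, 10, true), (4, 11, true), (3, 12, true), (6, 0, true), (5, 29, true), (4, 30, true), (3, 32, true), (2, 33, true), (6, 1, true), (7, 21, true), (6, 22, true), (5, 23, true), (4, 25, true), (3, 26, true), (8, 6, true), (7, 7, true), (6, 8, true), (9, 3, true), (8, 4, true), (7, 5, true), (8, 1, true), (7, 2, true), (7, 45, true), (6, 48, true), (5, 49, true), (4, 50, true), (3, 51, true), (2, 52, true), (1, 54, true), (3, 28, true), (2, 31,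 true), (1, 32, true), (4, 0, true), (3, 13, true), (2, 14, true), (2, 6, true), (3, 6, true), (2, 9, true), (2, 1, true), (3, 21, true), (2, 22, true), (4, 3, true), (3, 4, true), (5, 1, true), (4, 2, true), (4, 15, true), (3, 17, true), (5, 3, true), (4, 5, true), (4, 10, true), (5, 6, true), (6, 0, true), (5, 31, true), (4, 32, true), (3, 33, true), (2, 34, true), (1, 35, true), (2, 21, true), (1, 22, true), (3, 1, true), (2, 2, true), (2, 15, true), (3, 10, true), (4, 6, true), (5, 0, true), (4, 13, true), (3, 14, true), (3, 6, true), (4, 1, true), (5, 0, true), (4, 46, true), (3, 48, true), (2, 50, true), (1, 51, true), (4, 16, true), (3, 17, true), (5, 4, true), (4, 5, true), (4, 7, true), (5, 2, true), (4, 31, true), (3, 33, true), (2, 34, true), (4, 16, true), (5, 7, true), (7, 1, true), (6, 2, true), (6, 1, true), (7, 0, true)]),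
    ([15, 4, 4], [(0, 120, true), (6, 120, true), (5, 67, true), (4, 69, true), (3, 70, true), (2, 73, true), (1, 76, true), (0, 77, true), (1, 55, true), (0, 56, true), (2, 36, true), (1, 37, true), (3, 21, true), (2, 22, true), (4, 10, true), (3, 11, true), (5, 3, true), (4, 4, true), (6, 0, true), (5, 29, true), (4, 30, true), (3, 32, true), (2, 34, true), (4, 11, true), (5, 4, true), (7, 1, true), (6, 2, true), (6, 15, true), (5, 17, true), (4, 19, true), (6, 3, true), (7, 0, true), (6, 8, true), (8, 11, true), (7, 12, true), (6, 13, true), (5, 14, true), (5, 6, true), (6, 3, true), (7, 1, true), (8, 3, true), (7, 4, true), (6, 5, true), (7, 0, true), (6, 7, true), (5, 9, true), (6, 1, true), (5, 2, true), (5, 55, true), (4, 60, true), (3, 61, true), (2, 62, true), (1, 63, true), (0, 65, true), (5, 28, true), (4, 29, true), (3, 30, true), (2, 31, true), (1, 32, true), (4, 3, true), (5, 0, true), (6, 10, true), (5, 11, true), (4, 12, true), (3, 13, true), (2, 14, true), (2, 6, true), (3, 3, true), (4, 1, true), (5, 0, true), (4, 4, true), (3, 5,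 true), (3, 2, true), (3, 21, true), (2, 24, true), (4, 0, true), (3, 13, true), (4, 9, true), (6, 15, true), (5, 16, true), (4, 17, true), (3, 19, true), (5, 3, true), (6, 1, true), (7, 0, true), (6, 7, true), (5, 8, true), (8, 28, true), (7, 29, true), (6, 30, true), (5, 31, true), (4, 32, true), (3, 33, true), (2, 34, true), (1, 35, true), (2, 21, true), (1, 22, true), (3, 1, true), (2, 2, true), (2, 15, true), (3, 10, true), (4, 6, true), (5, 0, true), (6, 1, true), (7, 0, true), (6, 11, true), (5, 12, true), (4, 13, true), (3, 14, true), (3, 6, true), (4, 3, true), (5, 1, true), (6, 6, true), (5, 7, true), (4, 8, true), (3, 9, true), (5, 1, true), (4, 2, true)], [(1, 14, true), (0, 116, true)]),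
    ([15, 9, 7, 6, 9, 7, 6], [(0, 123, true), (7, 123, true), (6, 93, true), (5, 94, true), (4, 96, true), (3, 100, true), (2, 101, true), (1, 102, true), (0, 104, true), (0, 71, true), (1, 20, true), (1, 6, true), (2, 3, true), (3, 55, true), (2, 57, true), (1, 58, true), (4, 0, true), (3, 12, true), (2, 13, true), (4, 5, true), (4, 46, true), (3, 48, true), (2, 49, true), (5, 37, true), (4, 39, true), (3, 40, true), (5, 6, true), (6, 0, true), (6, 22, true), (5, 24, true), (4, 25, true), (7, 1, true), (8, 15, true), (7, 16, true), (6, 18, true), (5, 19, true), (7, 6, true), (8, 1, true), (9, 0, true), (8, 2, true), (8, 15, true), (7, 18, true), (6, 19, true), (5, 20, true), (5, 10, true), (6, 0, true), (7, 6, true), (6, 9, true), (6, 0, true), (6, 68, true), (5, 70, true), (4, 72, true), (3, 74, true), (2, 75, true), (1, 76, true), (0, 77, true), (1, 55, true), (0, 56, true), (2, 36, true), (1, 37, true), (3, 21, true), (2, 22, true), (4, 10, true), (3, 11, true), (5, 3, true), (4, 4, true), (6, 0, true), (5, 46, true), (4, 47, true), (3, 49, true),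 (2, 51, true), (1, 53, true), (5, 21, true), (4, 22, true), (3, 24, true), (5, 1, true), (6, 0, true), (5, 4, true), (6, 2, true), (5, 12, true), (4, 13, true), (6, 5, true), (6, 1, true), (7, 15, true), (6, 16, true), (5, 18, true), (4, 19, true), (6, 6, true), (7, 1, true), (8, 0, true), (7, 7, true), (6, 9, true), (6, 4, true), (7, 2, true), (7, 36, true), (6, 38, true), (5, 40, true), (4, 41, true), (3, 42, true), (2, 44, true), (4, 21, true), (3, 22, true), (2, 23, true), (5, 3, true), (4, 4, true), (3, 5, true), (4, 15, true), (3, 16, true), (5, 10, true), (4, 11, true), (6, 0, true), (5, 4, true), (7, 1, true), (6, 2, true), (6, 21, true), (5, 23, true), (4, 25, true), (3, 26, true), (2, 27, true), (2, 16, true), (3, 11, true), (4, 4, true), (6, 3, true), (5, 4, true), (4, 5, true), (5, 1, true), (4, 2, true), (4, 10, true), (3, 14, true), (3, 0, true), (4, 3, true), (3, 5, true), (3, 55, true), (2, 60, true), (1, 64, true), (0, 65, true), (4, 15, true), (3, 16, true), (2, 17, true), (1, 19, true), (3, 3, true), (4, 1, true), (5, 0, true),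 (4, 7, true), (3, 8, true), (6, 45, true), (5, 46, true), (4, 47, true), (3, 48, true), (2, 49, true), (1, 50, true), (0, 54, true), (2, 15, true), (1, 18, true), (0, 19, true), (2, 6, true), (3, 0, true), (3, 12, true), (2, 13, true), (1, 14, true), (1, 6, true), (2, 3, true), (3, 6, true), (2, 8, true), (1, 9, true), (2, 3, true), (1, 5, true), (1, 0, true), (2, 15, true), (1, 16, true), (0, 20, true), (0, 1, true), (1, 0, true), (0, 7, true), (1, 4, true)], [(3, 51, true), (2, 52, true), (1, 54, true), (3, 28, true), (2, 31, true), (1, 32, true), (4, 0, true), (3, 13, true), (2, 14, true), (2, 6, true), (3, 6, true), (2, 9, true), (2, 1, true), (3, 21, true), (2, 22, true), (4, 3, true), (3, 4, true), (5, 1, true), (4, 2, true), (4, 28, true), (3, 30, true), (2, 34, true), (1, 35, true), (2, 21, true), (1, 22, true), (3, 1, true), (2, 2, true), (2, 3, true), (3, 0, true), (3, 21, true), (2, 23, true), (1, 27, true), (1, 4, true), (0, 118, true), (3, 117, true), (8, 116, true), (2, 36, true), (1, 38, true), (0, 39, true), (2, 3, true), (3, 0, true),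 (2, 23, true), (1, 24, true), (3, 3, true), (4, 15, true), (3, 17, true), (2, 18, true), (5, 3, true), (4, 5, true), (4, 1, true), (5, 36, true), (4, 37, true), (3, 39, true), (2, 41, true), (1, 42, true), (0, 44, true), (2, 21, true), (1, 22, true), (0, 23, true), (3, 3, true), (2, 4, true), (1, 5, true), (2, 15, true), (1, 16, true), (3, 6, true), (2, 7, true), (4, 0, true), (3, 2, true), (3, 21, true), (2, 24, true), (1, 26, true), (0, 27, true), (0, 16, true), (1, 7, true), (3, 0, true), (2, 16, true), (1, 18, true), (0, 20, true), (0, 6, true), (1, 1, true), (2, 3, true), (1, 4, true), (3, 0, true)]),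
    ([15, 4, 9, 7, 6], [(0, 120, true), (6, 123, true), (5, 92, true), (4, 94, true), (3, 95, true), (2, 98, true), (1, 101, true), (0, 102, true), (4, 57, true), (3, 58, true), (2, 60, true), (4, 9, true), (5, 10, true), (4, 12, true), (6, 3, true), (5, 5, true), (5, 1, true), (6, 28, true), (5, 29, true), (4, 32, true), (3, 33, true), (7, 15, true), (6, 16, true), (5, 19, true), (4, 20, true), (4, 10, true), (5, 0, true), (6, 6, true), (5, 7, true), (7, 0, true), (6, 11, true), (5, 13, true), (4, 14, true), (4, 6, true), (5, 1, true), (6, 6, true), (5, 7, true), (4, 9, true), (5, 0, true), (4, 7, true), (6, 1, true), (5, 2, true), (5, 66, true), (4, 69, true), (3, 73, true), (2, 76, true), (1, 77, true), (2, 55, true), (1, 56, true), (3, 36, true), (2, 37, true), (4, 21, true), (3, 22, true), (5, 10, true), (4, 11, true), (6, 3, true), (5, 4, true), (7, 0, true), (6, 29, true), (5, 30, true), (4, 32, true), (3, 34, true), (5, 11, true), (6, 4, true), (8, 1, true), (7, 2, true), (7, 15, true), (6, 17, true), (5, 19, true), (7, 3, true), (8, 0, true),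 (7, 8, true), (9, 7, true), (8, 8, true), (7, 9, true), (9, 0, true), (8, 56, true), (7, 57, true), (6, 59, true), (5, 60, true), (4, 61, true), (3, 62, true), (2, 63, true), (1, 65, true), (6, 28, true), (5, 29, true), (4, 30, true), (3, 31, true), (2, 32, true), (5, 3, true), (6, 0, true), (7, 10, true), (6, 11, true), (5, 12, true), (4, 13, true), (3, 14, true), (3, 6, true), (4, 3, true), (5, 1, true), (6, 0, true), (5, 4, true), (4, 5, true), (4, 2, true), (4, 21, true), (3, 24, true), (5, 0, true), (4, 13, true), (5, 9, true), (7, 15, true), (6, 16, true), (5, 17, true), (4, 19, true), (6, 3, true), (7, 1, true), (8, 0, true), (7, 7, true), (6, 8, true), (8, 11, true), (7, 12, true), (6, 13, true), (5, 14, true), (5, 6, true), (6, 3, true), (7, 1, true), (8, 3, true), (7, 4, true), (6, 5, true), (7, 0, true), (6, 2, true), (5, 48, true), (4, 50, true), (3, 51, true), (2, 52, true), (1, 53, true), (5, 28, true), (4, 29, true), (3, 31, true), (5, 1, true), (6, 0, true), (5, 11, true), (4, 13, true), (6, 7, true), (5, 9, true), (5, 2, true), (4,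 25, true), (7, 16, true), (6, 17, true), (5, 19, true), (7, 3, true), (8, 1, true), (9, 3, true), (8, 4, true), (7, 5, true), (8, 6, true), (7, 7, true), (9, 15, true), (8, 16, true), (7, 18, true), (6, 19, true), (5, 20, true), (5, 10, true), (6, 0, true), (8, 6, true), (7, 7, true), (6, 9, true), (7, 3, true), (6, 4, true)], [(1, 49, true), (2, 32, true), (3, 25, true), (0, 123, true), (7, 120, true), (6, 68, true), (5, 69, true), (4, 71, true), (3, 75, true), (2, 76, true), (1, 77, true), (2, 55, true), (1, 56, true), (3, 36, true), (2, 37, true), (4, 21, true), (3, 22, true), (5, 10, true), (4, 11, true), (6, 3, true), (5, 4, true), (7, 0, true), (6, 46, true), (5, 47, true), (4, 49, true), (3, 51, true), (2, 53, true), (6, 21, true), (5, 22, true), (4, 24, true), (6, 1, true), (7, 0, true), (6, 4, true), (7, 2, true), (6, 12, true), (5, 13, true), (7, 5, true), (7, 1, true), (8, 15, true), (7, 16, true), (6, 18, true), (5, 19, true), (7, 6, true), (8, 1, true), (9, 0, true), (8, 7, true), (7, 9, true), (7, 4, true), (8, 2, true), (8, 15, true),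 (7, 17, true), (6, 19, true), (5, 20, true), (5, 10, true), (6, 0, true), (7, 6, true), (6, 8, true), (8, 0, true), (7, 5, true), (6, 58, true), (5, 59, true), (4, 61, true), (3, 63, true), (2, 64, true), (1, 65, true), (5, 36, true), (4, 37, true), (3, 38, true), (2, 40, true), (4, 3, true), (5, 1, true), (6, 0, true), (5, 11, true), (4, 12, true), (3, 14, true), (3, 3, true), (4, 1, true), (5, 6, true), (4, 7, true), (3, 8, true), (6, 3, true), (5, 4, true), (4, 5, true), (5, 1, true), (4, 2, true), (4, 0, true), (3, 24, true), (5, 10, true), (4, 13, true), (6, 6, true), (5, 9, true), (5, 3, true), (6, 1, true), (7, 0, true), (6, 11, true), (5, 12, true), (4, 14, true), (4, 3, true), (5, 1, true), (6, 6, true), (5, 7, true), (4, 8, true), (7, 28, true), (6, 29, true), (5, 30, true), (4, 31, true), (3, 34, true), (5, 7, true), (7, 3, true), (6, 4, true), (8, 0, true), (7, 2, true), (7, 10, true), (6, 12, true), (5, 13, true), (8, 6, true), (7, 8, true), (6, 9, true), (7, 1, true)]),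
    ([15, 5, 9, 7, 6], [(0, 121, true), (6, 123, true), (5, 92, true), (4, 97, true), (3, 98, true), (2, 100, true), (1, 102, true), (0, 104, true), (0, 71, true), (1, 20, true), (1, 6, true), (2, 3, true), (3, 45, true), (2, 47, true), (1, 48, true), (4, 0, true), (3, 38, true), (2, 39, true), (4, 3, true), (5, 21, true), (4, 23, true), (3, 24, true), (5, 3, true), (6, 0, true), (5, 17, true), (4, 18, true), (8, 28, true), (7, 29, true), (6, 30, true), (5, 31, true), (4, 33, true), (3, 34, true), (5, 16, true), (6, 7, true), (8, 3, true), (7, 4, true), (9, 0, true), (8, 2, true), (8, 15, true), (7, 17, true), (6, 18, true), (5, 20, true), (5, 6, true), (6, 3, true), (7, 0, true), (6, 8, true), (5, 9, true), (6, 21, true), (5, 23, true), (4, 27, true), (4, 4, true), (6, 15, true), (5, 16, true), (4, 17, true), (7, 6, true), (6, 7, true), (5, 8, true), (8, 1, true), (7, 2, true), (7, 66, true), (6, 68, true), (5, 69, true), (4, 71, true), (3, 73, true), (2, 74, true), (1, 75, true), (0, 77, true), (1, 45, true), (0, 46, true), (2, 15, true), (1, 16,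 true), (3, 6, true), (2, 7, true), (4, 3, true), (3, 4, true), (5, 1, true), (4, 2, true), (4, 0, true), (3, 38, true), (2, 39, true), (1, 41, true), (4, 3, true), (5, 1, true), (6, 28, true), (5, 29, true), (4, 30, true), (3, 31, true), (2, 33, true), (5, 3, true), (6, 0, true), (7, 15, true), (6, 16, true), (5, 17, true), (4, 18, true), (3, 20, true), (3, 6, true), (4, 3, true), (5, 1, true), (6, 0, true), (5, 7, true), (4, 8, true), (3, 9, true), (4, 2, true), (3, 17, true), (4, 8, true), (6, 3, true), (5, 5, true), (5, 0, true), (4, 58, true), (3, 60, true), (2, 62, true), (1, 63, true), (0, 64, true), (5, 36, true), (4, 37, true), (3, 38, true), (2, 40, true), (4, 3, true), (5, 1, true), (6, 0, true), (5, 11, true), (4, 12, true), (3, 14, true), (3, 3, true), (4, 1, true), (5, 6, true), (4, 7, true), (3, 8, true), (6, 3, true), (5, 4, true), (4, 5, true), (5, 1, true), (4, 2, true), (4, 0, true), (3, 31, true), (5, 10, true), (4, 13, true), (6, 3, true), (7, 1, true), (8, 0, true), (7, 16, true), (6, 17, true), (5, 18, true), (4, 19, true), (6,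 6, true), (7, 3, true), (8, 1, true), (9, 6, true), (8, 7, true), (7, 8, true), (6, 9, true), (8, 6, true), (7, 7, true), (6, 8, true), (9, 45, true), (8, 46, true), (7, 47, true), (6, 48, true), (5, 49, true), (4, 50, true), (3, 52, true), (2, 53, true), (1, 54, true), (3, 36, true), (2, 39, true), (1, 40, true), (3, 6, true), (4, 0, true), (4, 6, true), (3, 9, true), (3, 1, true), (4, 0, true), (3, 29, true), (2, 32, true), (4, 11, true), (3, 14, true), (3, 1, true), (4, 6, true), (3, 7, true), (5, 1, true), (4, 2, true), (4, 15, true), (3, 18, true), (5, 3, true), (6, 10, true), (5, 12, true), (4, 13, true), (7, 6, true), (6, 8, true), (5, 9, true), (6, 3, true), (5, 5, true), (5, 0, true), (6, 15, true), (5, 16, true), (4, 19, true), (3, 20, true), (3, 10, true), (4, 0, true), (5, 6, true), (4, 7, true), (6, 3, true), (5, 4, true)], [(1, 50, true), (3, 30, true), (2, 33, true), (5, 21, true), (4, 23, true), (3, 26, true), (0, 123, true), (7, 121, true), (13, 118, true), (16, 116, true), (6, 93, true), (5, 94, true), (4, 96, true), (3, 100, true),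 (2, 101, true), (1, 102, true), (0, 104, true), (0, 71, true), (1, 20, true), (1, 6, true), (2, 3, true), (3, 55, true), (2, 57, true), (1, 58, true), (4, 0, true), (3, 12, true), (2, 13, true), (4, 5, true), (4, 46, true), (3, 48, true), (2, 49, true), (5, 37, true), (4, 39, true), (3, 40, true), (5, 6, true), (6, 0, true), (6, 22, true), (5, 24, true), (4, 25, true), (7, 1, true), (8, 15, true), (7, 16, true), (6, 18, true), (5, 19, true), (7, 6, true), (8, 1, true), (9, 0, true), (8, 2, true), (8, 15, true), (7, 18, true), (6, 19, true), (5, 20, true), (5, 10, true), (6, 0, true), (7, 6, true), (6, 9, true), (6, 0, true), (6, 68, true), (5, 70, true), (4, 72, true), (3, 74, true), (2, 75, true), (1, 76, true), (0, 77, true), (1, 55, true), (0, 56, true), (2, 36, true), (1, 37, true), (3, 21, true), (2, 22, true), (4, 10, true), (3, 11, true), (5, 3, true), (4, 4, true), (6, 0, true), (5, 46, true), (4, 47, true), (3, 49, true), (2, 51, true), (1, 53, true), (5, 21, true), (4, 22, true), (3, 24, true), (5, 1, true), (6, 0, true), (5, 4, true), (6,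 2, true), (5, 12, true), (4, 13, true), (6, 5, true), (6, 1, true), (7, 15, true), (6, 16, true), (5, 18, true), (4, 19, true), (6, 6, true), (7, 1, true), (8, 0, true), (7, 7, true), (6, 9, true), (6, 4, true), (7, 2, true), (7, 36, true), (6, 38, true), (5, 40, true), (4, 41, true), (3, 42, true), (2, 44, true), (4, 21, true), (3, 22, true), (2, 23, true), (5, 3, true), (4, 4, true), (3, 5, true), (4, 15, true), (3, 16, true), (5, 10, true), (4, 11, true), (6, 0, true), (5, 4, true), (7, 1, true), (6, 2, true), (6, 21, true), (5, 23, true), (4, 25, true), (3, 26, true), (2, 27, true), (2, 16, true), (3, 11, true), (4, 4, true), (6, 3, true), (5, 4, true), (4, 5, true), (5, 1, true), (4, 2, true), (4, 10, true), (3, 14, true), (3, 0, true), (4, 3, true), (3, 5, true), (3, 45, true), (2, 50, true), (1, 54, true), (3, 15, true), (2, 18, true), (1, 19, true), (3, 6, true), (4, 0, true), (5, 28, true), (4, 30, true), (3, 31, true), (2, 32, true), (1, 33, true), (5, 3, true), (6, 0, true), (6, 21, true), (5, 23, true), (4, 24, true), (3, 25, true), (2,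 26, true), (6, 3, true), (7, 0, true), (7, 7, true), (6, 8, true), (5, 9, true), (6, 4, true), (5, 5, true), (6, 36, true), (5, 37, true), (4, 40, true), (3, 41, true), (2, 42, true), (1, 43, true), (5, 22, true), (4, 23, true), (3, 24, true), (5, 3, true), (6, 1, true), (7, 3, true), (6, 4, true), (5, 5, true), (6, 15, true), (5, 16, true), (4, 18, true), (7, 10, true), (6, 11, true), (5, 13, true), (8, 0, true), (7, 2, true), (7, 21, true), (6, 24, true), (5, 25, true), (4, 26, true), (3, 27, true), (3, 16, true), (4, 11, true), (5, 7, true), (7, 0, true), (6, 16, true), (5, 18, true), (4, 19, true), (3, 20, true), (3, 10, true), (4, 0, true), (5, 4, true)]),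
    ([15, 10, 7, 6, 10, 7, 6], [(0, 124, true), (8, 124, true), (7, 91, true), (6, 92, true), (5, 94, true), (4, 98, true), (3, 99, true), (2, 101, true), (1, 102, true), (0, 104, true), (0, 71, true), (1, 20, true), (1, 6, true), (2, 3, true), (3, 55, true), (2, 57, true), (1, 58, true), (4, 0, true), (3, 12, true), (2, 13, true), (4, 5, true), (4, 37, true), (3, 39, true), (2, 40, true), (4, 6, true), (5, 0, true), (5, 16, true), (4, 18, true), (3, 19, true), (5, 6, true), (6, 1, true), (7, 6, true), (6, 7, true), (5, 9, true), (6, 3, true), (5, 4, true), (7, 28, true), (6, 29, true), (5, 30, true), (4, 32, true), (3, 33, true), (7, 1, true), (8, 0, true), (7, 16, true), (6, 17, true), (5, 19, true), (4, 20, true), (4, 10, true), (5, 0, true), (6, 7, true), (5, 8, true), (8, 6, true), (7, 7, true), (6, 8, true), (5, 9, true), (7, 0, true), (6, 2, true), (6, 66, true), (5, 68, true), (4, 70, true), (3, 73, true), (2, 74, true), (1, 76, true), (0, 77, true), (1, 55, true), (0, 56, true), (2, 36, true), (1, 37, true), (3, 21, true), (2, 22, true),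 (4, 10, true), (3, 11, true), (5, 3, true), (4, 4, true), (6, 0, true), (5, 37, true), (4, 38, true), (3, 40, true), (2, 42, true), (1, 44, true), (3, 21, true), (2, 22, true), (1, 23, true), (4, 3, true), (3, 4, true), (2, 5, true), (3, 10, true), (2, 11, true), (4, 0, true), (3, 4, true), (4, 2, true), (4, 29, true), (3, 30, true), (2, 32, true), (1, 34, true), (3, 11, true), (4, 4, true), (6, 1, true), (5, 2, true), (5, 15, true), (4, 17, true), (3, 19, true), (5, 3, true), (6, 0, true), (5, 8, true), (7, 11, true), (6, 12, true), (5, 13, true), (4, 14, true), (4, 6, true), (5, 3, true), (6, 1, true), (7, 3, true), (6, 4, true), (5, 5, true), (6, 0, true), (5, 4, true), (7, 55, true), (6, 56, true), (5, 57, true), (4, 58, true), (3, 60, true), (2, 61, true), (1, 62, true), (0, 65, true), (4, 21, true), (3, 22, true), (2, 23, true), (1, 25, true), (5, 10, true), (4, 11, true), (3, 12, true), (2, 14, true), (2, 3, true), (3, 1, true), (4, 0, true), (3, 7, true), (2, 8, true), (4, 4, true), (3, 5, true), (3, 2, true), (3, 15, true), (2, 18, true),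 (4, 6, true), (3, 9, true), (3, 6, true), (4, 3, true), (5, 0, true), (6, 36, true), (5, 37, true), (4, 38, true), (3, 39, true), (2, 41, true), (1, 42, true), (0, 43, true), (4, 22, true), (3, 23, true), (2, 24, true), (4, 3, true), (5, 1, true), (6, 3, true), (5, 4, true), (4, 5, true), (5, 15, true), (4, 16, true), (3, 18, true), (6, 6, true), (5, 7, true), (4, 9, true), (5, 0, true), (4, 4, true), (5, 2, true), (5, 28, true), (4, 30, true), (3, 33, true), (2, 34, true), (1, 35, true), (2, 21, true), (1, 22, true), (3, 1, true), (2, 2, true), (2, 15, true), (3, 3, true), (4, 0, true), (4, 6, true), (3, 8, true), (5, 1, true), (6, 0, true)], [(3, 61, true), (2, 62, true), (1, 65, true), (5, 21, true), (4, 22, true), (3, 23, true), (2, 25, true), (6, 10, true), (5, 11, true), (4, 12, true), (3, 14, true), (3, 3, true), (4, 1, true), (5, 0, true), (4, 7, true), (3, 8, true), (5, 4, true), (4, 5, true), (4, 2, true), (4, 28, true), (3, 31, true), (2, 34, true), (1, 35, true), (2, 21, true), (1, 22, true), (3, 1, true), (2, 2, true), (2, 6, true), (3,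 0, true), (3, 21, true), (2, 24, true), (1, 27, true), (1, 7, true), (3, 0, true), (0, 119, true), (1, 117, true), (0, 39, true), (2, 21, true), (1, 24, true), (3, 0, true), (2, 18, true)]),
    ([15, 10, 7, 6, 11, 6], [(0, 124, true), (8, 125, true), (7, 55, true), (6, 56, true), (5, 58, true), (4, 62, true), (3, 63, true), (2, 65, true), (7, 28, true), (6, 29, true), (5, 30, true), (4, 31, true), (3, 32, true), (6, 3, true), (7, 0, true), (8, 10, true), (7, 11, true), (6, 12, true), (5, 13, true), (4, 14, true), (4, 6, true), (5, 3, true), (6, 1, true), (7, 0, true), (6, 4, true), (5, 5, true), (5, 2, true), (5, 6, true), (4, 9, true), (4, 1, true), (5, 0, true), (4, 46, true), (3, 52, true), (2, 53, true), (6, 28, true), (5, 29, true), (4, 31, true), (6, 1, true), (7, 0, true), (6, 11, true), (5, 13, true), (7, 7, true), (6, 9, true), (6, 2, true), (6, 37, true), (5, 40, true), (4, 43, true), (3, 44, true), (5, 28, true), (4, 29, true), (3, 30, true), (5, 1, true), (6, 0, true), (5, 7, true), (4, 8, true), (6, 4, true), (5, 5, true), (5, 2, true),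 (4, 13, true), (6, 1, true), (7, 21, true), (6, 22, true), (5, 24, true), (4, 25, true), (7, 1, true), (8, 0, true), (7, 16, true), (6, 18, true), (5, 19, true), (7, 6, true), (8, 1, true), (9, 6, true), (8, 7, true), (7, 9, true)], [(3, 72, true), (2, 73, true), (1, 76, true), (7, 28, true), (6, 30, true), (5, 32, true), (4, 34, true), (6, 11, true), (7, 4, true), (9, 0, true), (8, 16, true), (7, 17, true), (6, 19, true), (8, 3, true), (9, 1, true), (10, 6, true), (9, 7, true), (8, 8, true), (11, 1, true), (10, 2, true), (10, 21, true), (9, 23, true), (8, 24, true), (7, 25, true), (6, 26, true), (5, 27, true), (5, 16, true), (6, 11, true), (7, 7, true), (9, 3, true), (8, 4, true), (10, 0, true), (9, 4, true), (8, 5, true), (8, 2, true), (7, 24, true), (6, 25, true), (5, 26, true), (8, 6, false), (6, 19, false), (5, 25, false), (6, 2, false), (6, 5, false), (7, 4, false), (8, 0, false), (6, 9, false), (7, 8, false), (8, 7, false), (9, 6, false), (5, 13, false), (6, 12, false), (7, 11, false), (3, 43, false), (4, 40, false), (5, 39, false), (6, 38,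 false), (7, 37, false), (8, 0, false), (6, 4, false), (7, 3, false), (5, 7, false), (4, 11, false), (4, 27, false), (5, 25, false), (6, 24, false), (7, 23, false), (8, 21, false), (8, 2, false), (9, 0, false), (7, 4, false), (8, 3, false), (6, 7, false), (5, 11, false), (3, 34, false), (4, 32, false), (5, 31, false), (6, 30, false), (7, 29, false), (8, 28, false), (2, 61, false), (0, 125, true), (6, 124, true), (14, 122, true), (23, 121, true), (29, 119, true), (5, 94, true), (4, 96, true), (3, 97, true), (2, 99, true), (1, 100, true), (0, 101, true), (4, 46, true), (3, 47, true), (2, 49, true), (5, 1, true), (6, 36, true), (5, 37, true), (4, 38, true), (3, 40, true), (5, 3, true), (6, 1, true), (7, 0, true), (6, 22, true), (5, 23, true), (4, 25, true), (7, 16, true), (6, 17, true), (5, 19, true), (7, 3, true), (8, 1, true), (9, 1, true), (8, 2, true), (8, 0, true), (7, 38, true), (6, 40, true), (5, 41, true), (4, 42, true), (3, 44, true), (5, 21, true), (4, 22, true), (3, 23, true), (6, 3, true), (5, 4, true), (4, 5, true), (5, 15, true), (4, 16,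 true), (6, 10, true), (5, 11, true), (7, 0, true), (6, 4, true), (7, 16, true), (6, 17, true), (5, 19, true), (4, 20, true), (4, 10, true), (5, 0, true), (6, 7, true), (5, 8, true), (7, 4, true), (6, 5, true), (6, 22, true), (5, 24, true), (4, 25, true), (3, 27, true), (3, 11, true), (4, 7, true), (6, 1, true), (5, 2, true), (5, 15, true), (4, 18, true), (3, 19, true), (5, 6, true), (6, 0, true), (5, 9, true), (4, 19, true), (3, 20, true), (3, 10, true), (4, 0, true), (5, 66, true), (4, 69, true), (3, 70, true), (2, 75, true), (1, 76, true), (7, 45, true), (6, 47, true), (5, 49, true), (4, 51, true), (3, 53, true), (7, 21, true), (6, 22, true), (5, 24, true), (7, 1, true), (8, 0, true), (7, 4, true), (8, 2, true), (7, 12, true), (6, 13, true), (8, 5, true), (8, 0, true), (7, 18, true), (6, 19, true), (8, 6, true), (9, 6, true), (8, 9, true), (8, 3, true), (9, 1, true), (10, 0, true), (9, 11, true), (8, 12, true), (7, 14, true), (7, 3, true), (8, 1, true), (9, 3, true), (8, 4, true), (7, 5, true), (8, 0, true), (7, 7, true), (9, 0, true), (8, 56, true),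 (7, 58, true), (6, 60, true), (5, 61, true), (4, 63, true), (3, 64, true), (2, 65, true), (6, 36, true), (5, 37, true), (4, 38, true), (3, 40, true), (5, 3, true), (6, 1, true), (7, 0, true), (6, 11, true), (5, 12, true), (4, 14, true), (4, 3, true), (5, 1, true), (6, 6, true), (5, 7, true), (4, 8, true), (7, 3, true), (6, 4, true), (5, 5, true), (6, 1, true), (5, 2, true), (5, 0, true), (4, 24, true), (6, 10, true), (5, 13, true), (7, 6, true), (6, 9, true), (6, 3, true), (7, 1, true), (8, 0, true), (7, 16, true), (6, 17, true), (5, 19, true), (7, 3, true), (8, 1, true), (9, 6, true), (8, 7, true), (7, 8, true), (10, 6, true), (9, 7, true), (8, 8, true), (7, 9, true), (9, 1, true), (8, 2, true), (8, 36, true), (7, 38, true), (6, 40, true), (5, 41, true), (4, 42, true), (3, 44, true), (5, 21, true), (4, 22, true), (3, 23, true), (6, 3, true), (5, 4, true), (4, 5, true), (5, 15, true), (4, 16, true), (6, 10, true), (5, 11, true), (7, 0, true), (6, 4, true), (8, 28, true), (7, 29, true), (6, 30, true), (5, 32, true), (4, 33, true), (3, 34, true), (5,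 16, true), (6, 11, true), (7, 4, true), (9, 1, true), (8, 2, true), (8, 0, true), (7, 8, true), (10, 91, true), (9, 92, true), (8, 93, true), (7, 94, true), (6, 95, true), (5, 96, true), (4, 97, true), (3, 98, true), (2, 100, true), (1, 102, true), (0, 104, true), (0, 71, true), (1, 20, true), (1, 6, true), (2, 3, true), (3, 45, true), (2, 47, true), (1, 48, true), (4, 0, true), (3, 38, true), (2, 39, true), (4, 3, true), (5, 21, true), (4, 23, true), (3, 24, true), (5, 3, true), (6, 0, true), (5, 17, true), (4, 18, true), (8, 28, true), (7, 29, true), (6, 30, true), (5, 31, true), (4, 33, true), (3, 34, true), (5, 16, true), (6, 7, true), (8, 3, true), (7, 4, true), (9, 0, true), (8, 2, true), (8, 15, true), (7, 17, true), (6, 18, true), (5, 20, true), (5, 6, true), (6, 3, true), (7, 0, true), (6, 8, true), (5, 9, true), (6, 21, true), (5, 23, true), (4, 27, true), (4, 4, true), (6, 15, true), (5, 16, true), (4, 17, true), (7, 6, true), (6, 7, true), (5, 8, true), (8, 15, true), (7, 16, true), (6, 17, true), (5, 18, true), (4, 20, true), (4, 6, true),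 (5, 3, true), (6, 1, true), (7, 0, true), (6, 11, true), (5, 12, true), (4, 13, true), (7, 7, true), (6, 8, true), (5, 9, true), (7, 6, true), (6, 7, true), (5, 8, true), (8, 0, true), (7, 4, true), (6, 5, true), (6, 2, true), (6, 66, true), (5, 69, true), (4, 70, true), (3, 73, true), (2, 74, true), (1, 75, true), (0, 77, true), (1, 45, true), (0, 46, true), (2, 15, true), (1, 16, true), (3, 6, true), (2, 7, true), (4, 3, true), (3, 4, true), (5, 1, true), (4, 2, true), (4, 0, true), (3, 38, true), (2, 39, true), (1, 41, true), (4, 3, true), (5, 1, true), (6, 28, true), (5, 29, true), (4, 30, true), (3, 31, true), (2, 33, true), (5, 3, true), (6, 0, true), (7, 15, true), (6, 16, true), (5, 17, true), (4, 18, true), (3, 20, true), (3, 6, true), (4, 3, true), (5, 1, true), (6, 0, true), (5, 7, true), (4, 8, true), (3, 9, true), (4, 2, true), (3, 12, true), (4, 5, true), (4, 6, true), (5, 0, true), (5, 45, true), (4, 48, true), (3, 49, true), (2, 52, true), (1, 53, true), (0, 54, true), (2, 36, true), (1, 39, true), (0, 40, true), (2, 6, true), (3,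 0, true), (3, 6, true), (2, 9, true), (2, 1, true), (3, 0, true), (2, 29, true), (1, 32, true), (3, 11, true), (2, 14, true), (2, 1, true), (3, 6, true), (2, 7, true), (4, 1, true), (3, 2, true), (3, 10, true), (2, 13, true), (4, 6, true), (3, 9, true), (3, 0, true), (2, 40, true), (1, 43, true), (0, 44, true), (2, 28, true), (1, 29, true), (0, 30, true), (2, 1, true), (3, 0, true), (2, 7, true), (1, 8, true), (3, 4, true), (2, 5, true), (2, 2, true), (1, 13, true), (3, 28, true), (2, 31, true), (1, 32, true), (0, 35, true), (1, 10, true), (0, 11, true), (2, 6, true), (1, 7, true), (3, 0, true), (3, 15, true), (2, 16, true), (1, 18, true), (0, 19, true), (2, 6, true), (3, 1, true), (4, 0, true), (3, 7, true), (2, 9, true), (2, 2, true), (2, 91, true), (1, 95, true), (0, 96, true), (4, 0, true), (3, 69, true), (2, 70, true), (1, 71, true), (5, 6, true), (4, 8, true), (6, 0, true), (5, 47, true), (4, 48, true), (3, 49, true), (2, 50, true), (4, 12, true), (5, 8, true), (6, 5, true), (6, 28, true), (5, 31, true), (4, 32, true), (3, 33, true), (7, 0,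 true), (6, 24, true), (5, 25, true), (4, 26, true), (8, 1, true), (9, 6, true), (8, 7, true), (7, 9, true)])]
  gauge := [
    [(14, 1)], [(27, 1)], [(42, 1)], [(27, 1), (42, 1), (43, 1)], [(42, 1), (43, 1), (52, 1)],
    [(42, 1), (43, 1), (73, 1)], [(14, 1), (27, 1), (85, 1)], [(43, 1), (88, 1)],
    [(27, 1), (43, 1), (52, 1), (76, 1), (85, 1)], [], [], [(43, 1), (73, 1), (85, 1), (103, 1)], [], []]
  picks := [
    [(0, 1), (4, 1), (5, 1)], [(1, 1)],
    [(0, 1), (2, 1), (4, 1), (5, 1), (6, 1), (7, 1), (12, 1), (13, 1), (14, 1)], [(2, 1)], [(7, 1)],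
    [(0, 1), (2, 1), (3, 1), (4, 1), (8, 1), (9, 1), (10, 1), (11, 1), (16, 1), (18, 1), (19, 1), (27, 1), (28, 1)],
    [(3, 1)], [(0, 1), (4, 1), (5, 1), (8, 1), (9, 1)],
    [(3, 1), (4, 1), (5, 1), (8, 1), (9, 1), (16, 1), (17, 1)],
    [(0, 1), (5, 1), (19, 1), (24, 1), (36, 1), (37, 1)], [(0, 1)], [(10, 1)],
    [(10, 1), (17, 1), (18, 1)],
    [(0, 1), (1, 1), (3, 1), (4, 1), (5, 1), (7, 1), (13, 1), (17, 1), (18, 1), (23, 1)], [], [(4, 1)],
    [(11, 1)], [(4, 1), (11, 1), (19, 1)], [(4, 1), (19, 1), (24, 1)],
    [(3, 1), (5, 1), (7, 1), (13, 1), (14, 1), (16, 1), (17, 1), (18, 1), (20, 1), (21, 1), (27, 1), (29, 1), (31, 1), (33, 1), (37, 1), (39, 1), (41, 1)],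
    [(4, 1), (7, 1), (8, 1), (9, 1), (10, 1), (12, 1), (14, 1), (17, 1), (21, 1), (25, 1), (28, 1), (29, 1), (31, 1), (33, 1), (37, 1), (39, 1), (41, 1), (44, 1), (45, 1), (49, 1), (69, 1), (70, 1), (71, 1), (73, 1)],
    [(9, 1)], [(6, 1)], [(4, 1), (7, 1), (19, 1), (32, 1)],
    [(0, 1), (1, 1), (2, 1), (3, 1), (4, 1), (6, 1), (7, 1), (13, 1), (14, 1), (18, 1), (21, 1), (24, 1), (25, 1), (28, 1), (29, 1), (31, 1), (33, 1), (34, 1), (37, 1), (39, 1), (41, 1)],
    [(4, 1), (5, 1), (7, 1), (8, 1), (10, 1), (11, 1), (17, 1), (18, 1), (19, 1), (20, 1), (25, 1), (29, 1), (30, 1), (31, 1), (32, 1), (34, 1)],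
    [(0, 1), (4, 1), (8, 1), (9, 1), (10, 1), (12, 1), (13, 1), (16, 1), (18, 1), (20, 1), (25, 1), (27, 1), (28, 1), (44, 1), (45, 1), (49, 1)],
    [], [(0, 1), (2, 1), (4, 1), (5, 1), (7, 1), (13, 1)],
    [(0, 1), (2, 1), (4, 1), (5, 1), (7, 1), (12, 1), (13, 1)],
    [(0, 1), (2, 1), (8, 1), (9, 1), (10, 1), (11, 1), (13, 1), (14, 1), (17, 1), (19, 1), (20, 1), (21, 1), (24, 1), (27, 1), (29, 1), (31, 1), (33, 1), (34, 1), (37, 1), (39, 1), (41, 1)],
    [(3, 1), (4, 1), (5, 1), (6, 1), (8, 1), (9, 1), (10, 1), (11, 1), (13, 1), (16, 1), (17, 1), (19, 1), (27, 1), (29, 1), (31, 1), (32, 1), (33, 1), (34, 1), (36, 1), (39, 1), (41, 1)],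
    [(2, 1), (3, 1), (4, 1), (12, 1), (13, 1), (16, 1), (18, 1), (23, 1), (24, 1), (27, 1), (28, 1), (29, 1), (30, 1), (31, 1), (34, 1), (37, 1), (39, 1), (41, 1)],
    [(0, 1), (1, 1), (7, 1), (8, 1), (9, 1), (12, 1), (13, 1), (16, 1), (19, 1), (21, 1), (25, 1), (27, 1), (28, 1), (32, 1), (34, 1), (45, 1), (47, 1), (49, 1), (69, 1), (70, 1), (71, 1), (73, 1)],
    [(2, 1), (4, 1), (5, 1), (6, 1), (8, 1), (10, 1), (12, 1), (14, 1), (16, 1), (18, 1), (19, 1), (20, 1), (25, 1), (27, 1), (28, 1), (32, 1), (44, 1), (45, 1), (49, 1), (58, 1), (60, 1), (61, 1)],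
    [(1, 1), (3, 1), (5, 1), (9, 1), (13, 1), (14, 1), (15, 1), (18, 1), (20, 1), (22, 1), (24, 1), (27, 1), (28, 1), (30, 1), (31, 1), (32, 1), (34, 1), (35, 1), (37, 1), (39, 1), (41, 1), (42, 1), (45, 1), (50, 1), (53, 1), (56, 1), (60, 1), (61, 1), (62, 1), (64, 1), (66, 1), (70, 1), (72, 1), (73, 1), (74, 1), (77, 1), (78, 1), (80, 1), (81, 1), (82, 1), (87, 1), (90, 1), (98, 1), (99, 1), (102, 1)],
    [(4, 1), (5, 1), (17, 1)],
    [(0, 1), (2, 1), (3, 1), (7, 1), (8, 1), (9, 1), (10, 1), (11, 1), (16, 1), (18, 1), (20, 1), (27, 1), (28, 1), (32, 1)],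
    [(0, 1), (2, 1), (3, 1), (4, 1), (5, 1), (7, 1), (8, 1), (9, 1), (10, 1), (11, 1), (15, 1), (16, 1), (17, 1), (18, 1), (20, 1), (27, 1), (28, 1), (32, 1)],
    [(6, 1), (15, 1), (17, 1), (18, 1), (19, 1), (20, 1), (21, 1), (22, 1), (28, 1), (29, 1), (31, 1), (33, 1), (34, 1), (36, 1), (39, 1), (41, 1)],
    [(0, 1), (3, 1), (5, 1), (6, 1), (13, 1), (14, 1), (16, 1), (17, 1), (18, 1), (19, 1), (20, 1), (22, 1), (25, 1), (26, 1), (31, 1), (32, 1), (36, 1), (42, 1), (43, 1)],
    [(0, 1), (1, 1), (3, 1), (6, 1), (7, 1), (8, 1), (9, 1), (10, 1), (11, 1), (12, 1), (13, 1), (16, 1), (18, 1), (20, 1), (22, 1), (27, 1), (28, 1), (36, 1), (37, 1), (48, 1), (49, 1), (70, 1), (74, 1), (78, 1)],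
    [], [],
    [(2, 1), (5, 1), (8, 1), (9, 1), (11, 1), (12, 1), (15, 1), (18, 1), (19, 1), (20, 1), (23, 1), (24, 1), (25, 1), (26, 1), (27, 1), (29, 1), (33, 1), (39, 1), (42, 1), (44, 1), (47, 1), (55, 1), (56, 1), (69, 1), (71, 1), (72, 1), (73, 1), (75, 1), (77, 1)],
    [(0, 1), (2, 1), (3, 1), (8, 1), (9, 1), (10, 1), (16, 1), (18, 1), (27, 1)],
    [(3, 1), (4, 1), (5, 1), (7, 1), (8, 1), (9, 1), (10, 1), (11, 1), (12, 1), (13, 1), (14, 1), (16, 1), (18, 1), (27, 1), (28, 1), (30, 1), (32, 1)],
    [(2, 1), (3, 1), (7, 1), (8, 1), (9, 1), (10, 1), (11, 1), (13, 1), (14, 1), (17, 1), (20, 1), (21, 1), (24, 1), (28, 1), (31, 1), (33, 1), (37, 1), (39, 1), (41, 1)],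
    [(0, 1), (1, 1), (3, 1), (6, 1), (8, 1), (9, 1), (11, 1), (13, 1), (14, 1), (15, 1), (16, 1), (17, 1), (19, 1), (21, 1), (24, 1), (25, 1), (26, 1), (29, 1), (30, 1), (33, 1), (34, 1), (35, 1), (36, 1), (37, 1), (39, 1), (41, 1), (42, 1), (43, 1)],
    [(1, 1), (2, 1), (6, 1), (10, 1), (11, 1), (13, 1), (14, 1), (15, 1), (17, 1), (18, 1), (19, 1), (21, 1), (24, 1), (25, 1), (27, 1), (29, 1), (30, 1), (33, 1), (34, 1), (35, 1), (36, 1), (37, 1), (39, 1), (41, 1), (42, 1), (43, 1)],
    [(0, 1), (2, 1), (4, 1), (7, 1), (9, 1), (10, 1), (11, 1), (14, 1), (16, 1), (17, 1), (18, 1), (19, 1), (20, 1), (25, 1), (26, 1), (27, 1), (28, 1), (29, 1), (31, 1), (32, 1), (35, 1), (43, 1), (45, 1), (46, 1), (49, 1), (51, 1), (54, 1), (69, 1), (70, 1), (71, 1), (73, 1)],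
    [(1, 1), (2, 1), (7, 1), (9, 1), (11, 1), (13, 1), (15, 1), (17, 1), (20, 1), (22, 1), (23, 1), (27, 1), (28, 1), (29, 1), (31, 1), (32, 1), (34, 1), (35, 1), (37, 1), (41, 1), (42, 1), (43, 1), (44, 1), (45, 1), (48, 1), (61, 1), (62, 1), (65, 1), (66, 1), (70, 1), (74, 1), (78, 1), (83, 1), (89, 1)],
    [],
    [(1, 1), (2, 1), (3, 1), (6, 1), (7, 1), (8, 1), (11, 1), (12, 1), (13, 1), (14, 1), (15, 1), (16, 1), (17, 1), (19, 1), (21, 1), (22, 1), (25, 1), (26, 1), (29, 1), (30, 1), (33, 1), (34, 1), (37, 1), (39, 1), (41, 1), (43, 1), (48, 1), (49, 1), (55, 1), (56, 1), (58, 1), (60, 1), (62, 1), (65, 1), (66, 1), (70, 1), (74, 1), (78, 1), (83, 1), (89, 1)],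
    [(0, 1), (4, 1), (5, 1), (6, 1), (8, 1), (10, 1), (11, 1), (13, 1), (15, 1), (18, 1), (19, 1), (20, 1), (22, 1), (24, 1), (27, 1), (30, 1), (31, 1), (32, 1), (33, 1), (34, 1), (35, 1), (37, 1), (39, 1), (41, 1), (42, 1), (45, 1), (50, 1), (53, 1), (56, 1), (60, 1), (61, 1), (62, 1), (64, 1), (66, 1), (70, 1), (72, 1), (73, 1), (74, 1), (77, 1), (78, 1), (80, 1), (81, 1), (82, 1), (83, 1), (87, 1), (90, 1), (98, 1), (99, 1), (102, 1)],
    [(0, 1), (4, 1), (5, 1), (36, 1)],
    [(6, 1), (12, 1), (13, 1), (18, 1), (20, 1), (21, 1), (23, 1), (27, 1), (30, 1), (33, 1), (36, 1), (41, 1)],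
    [(5, 1), (7, 1), (8, 1), (9, 1), (10, 1), (11, 1), (16, 1), (17, 1), (20, 1), (24, 1), (25, 1), (26, 1), (29, 1), (30, 1), (32, 1), (34, 1), (36, 1), (37, 1), (39, 1), (43, 1)],
    [(0, 1), (5, 1), (19, 1), (24, 1), (36, 1), (37, 1), (38, 1)],
    [(1, 1), (2, 1), (13, 1), (14, 1), (16, 1), (19, 1), (21, 1), (24, 1), (25, 1), (26, 1), (28, 1), (29, 1), (32, 1), (33, 1), (34, 1), (36, 1), (37, 1), (38, 1), (39, 1), (40, 1), (41, 1), (43, 1)],
    [(0, 1), (1, 1), (4, 1), (10, 1), (11, 1), (13, 1), (15, 1), (16, 1), (18, 1), (20, 1), (21, 1), (23, 1), (24, 1), (26, 1), (27, 1), (30, 1), (31, 1), (32, 1), (33, 1), (36, 1), (37, 1), (38, 1), (39, 1), (43, 1), (44, 1), (46, 1), (50, 1), (54, 1), (55, 1), (58, 1), (60, 1), (61, 1)],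
    [(0, 1), (7, 1), (10, 1), (11, 1), (12, 1), (13, 1), (14, 1), (15, 1), (18, 1), (24, 1), (27, 1), (28, 1), (30, 1), (31, 1), (33, 1), (35, 1), (36, 1), (37, 1), (39, 1), (42, 1), (43, 1), (59, 1), (61, 1), (62, 1), (63, 1), (66, 1)],
    [(0, 1), (3, 1), (6, 1), (8, 1), (9, 1), (10, 1), (11, 1), (15, 1), (16, 1), (18, 1), (22, 1), (23, 1), (24, 1), (27, 1), (29, 1), (31, 1), (32, 1), (36, 1), (37, 1), (39, 1), (42, 1), (44, 1), (45, 1), (47, 1), (48, 1), (53, 1), (58, 1), (60, 1), (61, 1), (69, 1), (70, 1), (71, 1), (72, 1), (73, 1), (74, 1), (75, 1), (77, 1), (78, 1), (83, 1), (90, 1), (93, 1), (94, 1)],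
    [(0, 1), (2, 1), (4, 1), (6, 1), (10, 1), (11, 1), (13, 1), (15, 1), (17, 1), (18, 1), (22, 1), (25, 1), (28, 1), (31, 1), (32, 1), (34, 1), (35, 1), (37, 1), (38, 1), (39, 1), (40, 1), (42, 1), (44, 1), (47, 1), (52, 1), (55, 1), (56, 1), (59, 1), (61, 1), (62, 1), (63, 1), (66, 1), (69, 1), (71, 1), (72, 1), (73, 1), (75, 1), (77, 1)],
    [(5, 1), (6, 1), (7, 1), (8, 1), (9, 1), (14, 1), (19, 1), (20, 1), (21, 1), (22, 1), (23, 1), (24, 1), (28, 1), (29, 1), (32, 1), (35, 1), (36, 1), (37, 1), (38, 1), (41, 1), (44, 1), (45, 1), (47, 1), (48, 1), (53, 1), (58, 1), (60, 1), (61, 1), (64, 1), (69, 1), (70, 1), (71, 1), (72, 1), (73, 1), (74, 1), (75, 1), (77, 1), (78, 1), (90, 1), (93, 1), (94, 1)],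
    [(0, 1), (2, 1), (3, 1), (4, 1), (7, 1), (9, 1), (10, 1), (12, 1), (15, 1), (21, 1), (24, 1), (27, 1), (28, 1), (29, 1), (30, 1), (34, 1), (35, 1), (36, 1), (37, 1), (38, 1), (39, 1), (41, 1), (52, 1), (83, 1), (87, 1), (91, 1), (93, 1)],
    [(3, 1), (8, 1), (9, 1), (45, 1)], [(3, 1), (8, 1), (9, 1), (44, 1), (45, 1)],
    [(0, 1), (5, 1), (11, 1), (16, 1), (18, 1), (19, 1), (27, 1), (28, 1), (45, 1), (46, 1)],
    [(2, 1), (5, 1), (7, 1), (15, 1), (20, 1), (21, 1), (24, 1), (27, 1), (29, 1), (31, 1), (32, 1), (33, 1), (34, 1), (37, 1), (39, 1), (41, 1), (44, 1), (46, 1), (48, 1), (49, 1), (50, 1), (70, 1), (74, 1), (78, 1)],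
    [(5, 1), (7, 1), (9, 1), (12, 1), (16, 1), (19, 1), (20, 1), (24, 1), (25, 1), (27, 1), (28, 1), (32, 1), (37, 1), (42, 1), (45, 1), (48, 1), (49, 1), (50, 1), (54, 1), (70, 1), (74, 1), (78, 1)],
    [(3, 1), (4, 1), (5, 1), (6, 1), (7, 1), (8, 1), (9, 1), (10, 1), (11, 1), (12, 1), (13, 1), (15, 1), (17, 1), (20, 1), (24, 1), (25, 1), (27, 1), (28, 1), (32, 1), (34, 1), (36, 1), (37, 1), (44, 1), (46, 1), (50, 1), (69, 1), (71, 1), (73, 1), (74, 1), (78, 1)],
    [(2, 1), (5, 1), (12, 1), (14, 1), (16, 1), (19, 1), (21, 1), (22, 1), (25, 1), (28, 1), (30, 1), (31, 1), (33, 1), (36, 1), (37, 1), (41, 1), (44, 1), (46, 1), (50, 1), (57, 1), (58, 1), (59, 1), (63, 1), (65, 1), (66, 1), (67, 1), (69, 1), (72, 1), (74, 1), (75, 1), (77, 1), (78, 1), (84, 1), (86, 1), (96, 1)],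
    [],
    [(1, 1), (2, 1), (6, 1), (7, 1), (8, 1), (9, 1), (10, 1), (11, 1), (18, 1), (19, 1), (25, 1), (28, 1), (30, 1), (31, 1), (33, 1), (34, 1), (39, 1), (42, 1), (43, 1), (45, 1), (47, 1), (48, 1), (49, 1), (53, 1), (54, 1), (55, 1), (56, 1), (57, 1), (58, 1), (59, 1), (63, 1), (65, 1), (66, 1), (67, 1), (70, 1), (71, 1), (73, 1), (84, 1), (86, 1), (96, 1)],
    [(1, 1), (2, 1), (8, 1), (9, 1), (11, 1), (13, 1), (14, 1), (17, 1), (18, 1), (19, 1), (22, 1), (27, 1), (28, 1), (29, 1), (30, 1), (31, 1), (33, 1), (41, 1), (44, 1), (47, 1), (48, 1), (49, 1), (51, 1), (56, 1), (58, 1), (59, 1), (60, 1), (68, 1), (69, 1), (70, 1), (71, 1), (72, 1), (73, 1), (74, 1), (75, 1), (77, 1), (78, 1), (83, 1), (84, 1), (86, 1), (89, 1)],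
    [],
    [(0, 1), (2, 1), (3, 1), (6, 1), (7, 1), (11, 1), (12, 1), (13, 1), (15, 1), (17, 1), (18, 1), (19, 1), (20, 1), (21, 1), (23, 1), (26, 1), (30, 1), (31, 1), (35, 1), (43, 1), (45, 1), (49, 1), (54, 1), (58, 1), (69, 1), (71, 1), (73, 1), (74, 1), (75, 1), (77, 1), (78, 1), (79, 1), (81, 1), (83, 1), (84, 1), (86, 1), (88, 1), (89, 1)],
    [(0, 1), (5, 1), (7, 1), (19, 1), (32, 1), (58, 1)],
    [(2, 1), (5, 1), (6, 1), (7, 1), (8, 1), (9, 1), (10, 1), (14, 1), (16, 1), (18, 1), (20, 1), (25, 1), (27, 1), (28, 1), (44, 1), (45, 1), (49, 1), (60, 1)],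
    [(1, 1), (6, 1), (7, 1), (8, 1), (9, 1), (10, 1), (11, 1), (13, 1), (14, 1), (16, 1), (19, 1), (21, 1), (24, 1), (25, 1), (27, 1), (29, 1), (31, 1), (33, 1), (34, 1), (37, 1), (39, 1), (41, 1), (59, 1)],
    [(5, 1), (7, 1), (8, 1), (9, 1), (10, 1), (11, 1), (16, 1), (18, 1), (19, 1), (24, 1), (27, 1), (28, 1), (32, 1), (36, 1), (37, 1), (58, 1), (62, 1)],
    [(5, 1), (6, 1), (7, 1), (8, 1), (10, 1), (11, 1), (12, 1), (15, 1), (16, 1), (17, 1), (19, 1), (21, 1), (22, 1), (24, 1), (26, 1), (28, 1), (29, 1), (30, 1), (31, 1), (32, 1), (33, 1), (34, 1), (35, 1), (39, 1), (42, 1), (43, 1), (44, 1), (45, 1), (48, 1), (61, 1), (63, 1), (65, 1), (66, 1), (70, 1), (74, 1), (78, 1), (83, 1), (89, 1)],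
    [(1, 1), (3, 1), (4, 1), (5, 1), (7, 1), (8, 1), (9, 1), (10, 1), (11, 1), (12, 1), (18, 1), (21, 1), (22, 1), (25, 1), (28, 1), (30, 1), (31, 1), (32, 1), (33, 1), (34, 1), (36, 1), (37, 1), (41, 1), (45, 1), (46, 1), (49, 1), (50, 1), (57, 1), (62, 1), (63, 1), (65, 1), (66, 1), (70, 1), (71, 1), (72, 1), (73, 1), (74, 1), (75, 1), (77, 1), (78, 1), (84, 1), (86, 1), (96, 1)],
    [(57, 1)], [],
    [(0, 1), (5, 1), (10, 1), (14, 1), (16, 1), (20, 1), (23, 1), (24, 1), (26, 1), (28, 1), (30, 1), (33, 1), (37, 1), (41, 1), (42, 1), (43, 1), (44, 1), (47, 1), (57, 1), (58, 1), (63, 1), (65, 1), (66, 1), (69, 1), (71, 1), (72, 1), (73, 1), (75, 1), (77, 1), (84, 1), (86, 1)],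
    [(2, 1), (3, 1), (6, 1), (7, 1), (8, 1), (11, 1), (12, 1), (13, 1), (14, 1), (16, 1), (17, 1), (18, 1), (19, 1), (20, 1), (21, 1), (23, 1), (26, 1), (29, 1), (31, 1), (32, 1), (34, 1), (36, 1), (39, 1), (63, 1), (65, 1), (66, 1), (83, 1)],
    [],
    [(2, 1), (3, 1), (6, 1), (7, 1), (13, 1), (14, 1), (16, 1), (17, 1), (18, 1), (19, 1), (21, 1), (23, 1), (25, 1), (26, 1), (27, 1), (29, 1), (30, 1), (33, 1), (34, 1), (35, 1), (36, 1), (39, 1), (41, 1), (43, 1), (45, 1), (46, 1), (47, 1), (49, 1), (50, 1), (54, 1), (57, 1), (58, 1), (59, 1), (61, 1), (62, 1), (69, 1), (71, 1), (72, 1), (73, 1), (75, 1), (77, 1), (83, 1), (84, 1), (86, 1), (88, 1), (89, 1)],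
    [(1, 1), (5, 1), (11, 1), (13, 1), (17, 1), (19, 1), (22, 1), (25, 1), (30, 1), (34, 1), (35, 1), (36, 1), (37, 1), (41, 1), (42, 1), (47, 1), (48, 1), (50, 1), (53, 1), (56, 1), (58, 1), (59, 1), (61, 1), (62, 1), (63, 1), (64, 1), (65, 1), (70, 1), (73, 1), (75, 1), (80, 1), (81, 1), (82, 1), (84, 1), (85, 1), (87, 1), (89, 1), (90, 1), (98, 1), (99, 1), (102, 1)],
    [(0, 1), (5, 1), (19, 1), (24, 1), (70, 1)],
    [(2, 1), (6, 1), (16, 1), (17, 1), (20, 1), (24, 1), (25, 1), (27, 1), (28, 1), (34, 1), (36, 1), (37, 1), (69, 1), (70, 1), (71, 1), (72, 1), (73, 1)],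
    [(3, 1), (5, 1), (6, 1), (7, 1), (8, 1), (9, 1), (13, 1), (14, 1), (16, 1), (17, 1), (32, 1), (44, 1), (45, 1), (48, 1), (72, 1), (78, 1)],
    [(0, 1), (4, 1), (7, 1), (13, 1), (14, 1), (16, 1), (17, 1), (18, 1), (20, 1), (21, 1), (27, 1), (29, 1), (31, 1), (33, 1), (36, 1), (39, 1), (41, 1), (70, 1), (71, 1)],
    [(1, 1), (5, 1), (10, 1), (11, 1), (12, 1), (13, 1), (17, 1), (18, 1), (19, 1), (25, 1), (26, 1), (27, 1), (29, 1), (31, 1), (32, 1), (33, 1), (34, 1), (36, 1), (39, 1), (41, 1), (43, 1), (46, 1), (47, 1), (48, 1), (49, 1), (51, 1), (54, 1), (58, 1), (60, 1), (61, 1), (69, 1), (70, 1), (72, 1), (73, 1), (74, 1), (77, 1), (78, 1)],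
    [(69, 1)],
    [(4, 1), (5, 1), (6, 1), (8, 1), (9, 1), (10, 1), (11, 1), (13, 1), (16, 1), (19, 1), (21, 1), (25, 1), (36, 1), (37, 1), (44, 1), (45, 1), (46, 1), (47, 1), (48, 1), (49, 1), (59, 1), (60, 1), (61, 1), (67, 1), (70, 1), (72, 1), (81, 1)],
    [(0, 1), (2, 1), (4, 1), (6, 1), (7, 1), (8, 1), (9, 1), (12, 1), (14, 1), (16, 1), (20, 1), (21, 1), (22, 1), (25, 1), (28, 1), (29, 1), (33, 1), (34, 1), (41, 1), (42, 1), (43, 1), (44, 1), (45, 1), (47, 1), (48, 1), (49, 1), (50, 1), (53, 1), (55, 1), (58, 1), (60, 1), (61, 1), (62, 1), (64, 1), (66, 1), (69, 1), (70, 1), (71, 1), (74, 1), (77, 1), (78, 1), (79, 1), (80, 1), (82, 1), (83, 1), (84, 1), (86, 1), (88, 1), (89, 1), (90, 1), (97, 1), (98, 1), (99, 1), (102, 1)],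
    [(0, 1), (2, 1), (3, 1), (6, 1), (8, 1), (13, 1), (15, 1), (17, 1), (18, 1), (20, 1), (22, 1), (23, 1), (25, 1), (27, 1), (28, 1), (29, 1), (35, 1), (37, 1), (41, 1), (42, 1), (43, 1), (49, 1), (51, 1), (54, 1), (55, 1), (56, 1), (59, 1), (60, 1), (61, 1), (67, 1), (70, 1), (71, 1), (72, 1), (73, 1), (74, 1), (75, 1), (76, 1), (77, 1), (78, 1), (81, 1)],
    [(0, 1), (3, 1), (4, 1), (6, 1), (9, 1), (15, 1), (21, 1), (22, 1), (25, 1), (26, 1), (27, 1), (32, 1), (36, 1), (38, 1), (39, 1), (42, 1), (44, 1), (46, 1), (47, 1), (49, 1), (53, 1), (54, 1), (55, 1), (58, 1), (59, 1), (61, 1), (62, 1), (64, 1), (68, 1), (69, 1), (70, 1), (72, 1), (74, 1), (75, 1), (79, 1), (80, 1), (88, 1), (90, 1), (97, 1), (98, 1), (99, 1), (102, 1)],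
    [(3, 1), (4, 1), (5, 1), (6, 1), (7, 1), (8, 1), (10, 1), (18, 1), (22, 1), (24, 1), (26, 1), (28, 1), (30, 1), (32, 1), (33, 1), (34, 1), (36, 1), (38, 1), (39, 1), (44, 1), (46, 1), (47, 1), (48, 1), (49, 1), (50, 1), (51, 1), (53, 1), (54, 1), (55, 1), (56, 1), (58, 1), (59, 1), (61, 1), (66, 1), (68, 1), (69, 1), (73, 1), (78, 1), (82, 1), (84, 1), (86, 1), (89, 1), (90, 1), (97, 1), (98, 1), (99, 1)],
    [(0, 1), (1, 1), (4, 1), (5, 1), (6, 1), (7, 1), (10, 1), (11, 1), (12, 1), (17, 1), (20, 1), (21, 1), (23, 1), (26, 1), (27, 1), (29, 1), (30, 1), (33, 1), (35, 1), (37, 1), (39, 1), (41, 1), (43, 1), (44, 1), (46, 1), (47, 1), (49, 1), (50, 1), (54, 1), (60, 1), (61, 1), (62, 1), (69, 1), (72, 1), (75, 1), (77, 1), (78, 1), (79, 1), (80, 1), (83, 1), (84, 1), (86, 1), (88, 1), (89, 1)],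
    [],
    [(0, 1), (1, 1), (2, 1), (3, 1), (5, 1), (6, 1), (8, 1), (9, 1), (10, 1), (11, 1), (12, 1), (15, 1), (17, 1), (18, 1), (19, 1), (20, 1), (22, 1), (24, 1), (25, 1), (27, 1), (28, 1), (32, 1), (36, 1), (39, 1), (41, 1), (42, 1), (44, 1), (45, 1), (47, 1), (50, 1), (51, 1), (57, 1), (60, 1), (61, 1), (62, 1), (63, 1), (64, 1), (66, 1), (67, 1), (68, 1), (70, 1), (73, 1), (74, 1), (75, 1), (79, 1), (81, 1), (82, 1), (86, 1), (88, 1), (89, 1), (95, 1), (96, 1), (98, 1), (99, 1), (102, 1)]]

/-- The elements of the certificate at 2 among the chosen ones. -/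
def idxTwo : List ℕ :=
  [10, 43, 44, 45, 13, 46, 47, 48, 49, 50, 42, 51, 11, 41, 55, 54]

/-- A vector moved freely by the subgroup at 2. -/
def vecTwo : ℕ := 0x40000401403010020040401001

/-- The certificate at 3. -/
def certThree : Schur.PrimeCert.Cert where
  p := 3
  n := 8
  rules := [
    ([0, 0, 0], []), ([0, 1], [1, 0]), ([1, 1, 1], []), ([0, 2], [2, 0]), ([1, 2], [2, 1]),
    ([2, 2, 2], []), ([0, 3], [3, 0]), ([1, 3], [3, 1]), ([2, 3], [3, 2, 1, 1]), ([3, 3, 3], []),
    ([0, 4], [4, 0]), ([1, 4], [4, 1]), ([2, 4], [4, 2]), ([3, 4], [4, 3]), ([4, 4, 4], []),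
    ([0, 5], [5, 0]), ([1, 5], [5, 1]), ([2, 5], [5, 2]), ([3, 5], [5, 3, 0]), ([4, 5], [5, 4]),
    ([5, 5, 5], []), ([0, 6], [6, 0]), ([1, 6], [6, 1]), ([2, 6], [6, 2]), ([3, 6], [6, 3, 2]),
    ([4, 6], [6, 4]), ([5, 6], [6, 5]), ([6, 6, 6], []), ([0, 7], [7, 0]), ([1, 7], [7, 1]),
    ([2, 7], [7, 2, 1, 1, 0]), ([3, 7], [7, 3, 1, 0, 0]), ([4, 7], [7, 4]), ([5, 7], [7, 5, 4, 1, 1, 0]),
    ([6, 7], [7, 6, 5, 4, 2, 2, 1, 1, 0]), ([7, 7, 7], []), ([8, 0], [0, 8]), ([8, 1], [4, 4, 1, 0, 8]),
    ([8, 2], [7, 5, 3, 3, 2, 2, 1, 1, 8]), ([8, 3], [7, 4, 4, 3, 3, 2, 2, 8]), ([8, 4], [4, 4, 0, 0, 8]),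
    ([8, 5], [3, 1, 0, 0, 8]), ([8, 7], [7, 7, 5, 4, 4, 3, 3, 1, 1, 8]),
    ([9, 0], [6, 5, 5, 4, 2, 1, 1, 0, 0, 9]), ([9, 1], [5, 5, 1, 0, 9]), ([9, 2], [5, 5, 2, 1, 1, 0, 9]),
    ([9, 4], [5, 4, 0, 0, 9]), ([9, 5], [5, 4, 4, 2, 2, 1, 0, 0, 9]), ([9, 6], [6, 5, 5, 2, 2, 0, 9])]
  eqs := [
    ([2, 2, 2, 3], [(0, 5, true)], [(2, 8, true), (1, 8, true), (0, 8, true), (3, 4, true), (2, 4, true), (3, 2, true), (3, 4, true), (1, 5, true), (1, 2, true)]),
    ([0, 2, 3], [(0, 3, true), (1, 6, true), (0, 8, true)], [(1, 8, true), (0, 6, true), (1, 3, true), (2, 1, true), (3, 1, true)]),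
    ([2, 3, 4], [(0, 8, true), (3, 11, true), (2, 11, true), (1, 12, true), (0, 13, true)], [(1, 13, true), (0, 12, true), (1, 8, true)]),
    ([3, 3, 3, 5], [(0, 9, true)], [(2, 18, true), (1, 18, true), (0, 18, true), (2, 6, true), (4, 6, true), (3, 6, true), (1, 9, true), (1, 0, true)]),
    ([2, 3, 5], [(0, 8, true), (3, 16, true), (2, 16, true), (1, 17, true), (0, 18, true), (2, 3, true), (3, 1, true), (4, 1, true)], [(1, 18, true), (0, 17, true), (1, 8, true)]),
    ([3, 4, 5], [(0, 13, true), (1, 18, true), (0, 19, true)], [(1, 19, true), (0, 18, true), (2, 10, true), (1, 13, true)]),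
    ([3, 3, 3, 6], [(0, 9, true)], [(2, 24, true), (1, 24, true), (0, 24, true), (2, 8, true), (5, 4, true), (4, 4, true), (6, 7, true), (5, 7, true), (4, 8, true), (3, 8, true), (1, 9, true), (3, 4, true), (2, 4, true), (3, 2, true), (3, 2, true), (1, 5, true)]),
    ([3, 6, 6, 6], [(0, 24, true), (2, 23, true), (1, 24, true), (4, 23, true), (3, 23, true), (2, 24, true), (0, 27, true), (1, 5, true)], [(1, 27, true)]),
    ([0, 3, 6], [(0, 6, true), (1, 21, true), (0, 24, true)], [(1, 24, true), (0, 21, true), (1, 6, true), (2, 3, true)]),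
    ([1, 3, 6], [(0, 7, true), (1, 22, true), (0, 24, true)], [(1, 24, true), (0, 22, true), (1, 7, true), (2, 4, true)]),
    ([2, 3, 6], [(0, 8, true), (3, 22, true), (2, 22, true), (1, 23, true), (0, 24, true)], [(1, 24, true), (0, 23, true), (1, 8, true), (4, 4, true), (3, 4, true)]),
    ([3, 4, 6], [(0, 13, true), (1, 24, true), (0, 25, true)], [(1, 25, true), (0, 24, true), (2, 12, true), (1, 13, true)]),
    ([3, 5, 6], [(0, 18, true), (2, 21, true), (1, 24, true), (0, 26, true)], [(1, 26, true), (0, 24, true), (2, 17, true), (1, 18, true), (3, 3, true)]),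
    ([2, 3, 7], [(0, 8, true), (3, 29, true), (2, 29, true), (1, 30, true), (0, 31, true), (4, 3, true), (3, 3, true), (2, 4, true), (5, 1, true), (4, 1, true), (6, 1, true), (5, 1, true), (3, 2, true), (3, 0, true)], [(1, 31, true), (0, 30, true), (4, 6, true), (3, 7, true), (2, 7, true), (1, 8, true), (3, 2, true), (4, 1, true), (5, 0, true)]),
    ([5, 5, 5, 7], [(0, 20, true)], [(2, 33, true), (1, 33, true), (0, 33, true), (5, 15, true), (4, 16, true), (3, 16, true), (2, 19, true), (6, 10, true), (5, 11, true), (4, 11, true), (7, 1, true), (5, 2, true), (5, 1, true), (7, 15, true), (6, 15, true), (5, 16, true), (4, 19, true), (3, 19, true), (1, 20, true), (5, 10, true), (4, 10, true), (3, 11, true), (1, 14, true), (3, 1, true), (2, 1, true), (4, 1, true), (3, 1, true), (1, 2, true), (1, 0, true)]),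
    ([2, 5, 7], [(0, 17, true), (1, 30, true), (0, 33, true), (5, 3, true), (4, 4, true), (3, 4, true), (6, 1, true), (4, 2, true), (4, 1, true)], [(1, 33, true), (0, 30, true), (4, 15, true), (3, 16, true), (2, 16, true), (1, 17, true), (5, 10, true), (4, 11, true), (3, 11, true), (2, 12, true), (6, 1, true), (4, 2, true), (4, 1, true)]),
    ([3, 5, 7], [(0, 18, true), (2, 28, true), (1, 31, true), (0, 33, true), (5, 6, true), (4, 7, true), (3, 7, true), (6, 1, true), (4, 2, true), (4, 0, true)], [(1, 33, true), (0, 31, true), (4, 15, true), (3, 15, true), (2, 16, true), (1, 18, true), (3, 1, true), (4, 0, true), (3, 11, true), (2, 13, true), (4, 2, true)]),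
    ([6, 6, 6, 7], [(0, 27, true)], [(2, 34, true), (1, 34, true), (0, 34, true), (8, 21, true), (7, 22, true), (6, 22, true), (5, 23, true), (4, 23, true), (3, 25, true), (2, 26, true), (9, 15, true), (8, 16, true), (7, 16, true), (6, 17, true), (5, 17, true), (4, 19, true), (10, 10, true), (9, 11, true), (8, 11, true), (7, 12, true), (6, 12, true), (11, 3, true), (10, 4, true), (9, 4, true), (7, 5, true), (9, 3, true), (8, 4, true), (7, 4, true), (10, 1, true), (8, 2, true), (8, 1, true), (10, 21, true), (9, 21, true), (8, 22, true), (7, 23, true), (6, 25, true), (5, 25, true), (4, 26, true), (3, 26, true), (1, 27, true), (8, 15, true), (7, 15, true), (6, 16, true), (5, 17, true), (4, 19, true), (3, 19, true), (1, 20, true), (6, 10, true), (5, 10, true), (4, 11, true), (3, 12, true), (1, 14, true), (4, 3, true), (3, 3, true), (2, 4, true), (5, 3, true), (4, 3, true), (3, 4, true), (1, 5, true), (3, 1, true), (2, 1, true), (4, 1, true), (3, 1, true), (1, 2, true), (1, 0, true)]),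
    ([6, 7, 7, 7], [(0, 34, true), (8, 28, true), (7, 29, true), (6, 29, true), (5, 30, true), (4, 30, true), (3, 32, true), (2, 33, true), (1, 34, true), (9, 15, true), (8, 16, true), (7, 16, true), (6, 17, true), (5, 17, true), (4, 19, true), (10, 10, true), (9, 11, true), (8, 11, true), (7, 12, true), (6, 12, true), (11, 1, true), (9, 2, true), (9, 1, true), (11, 10, true), (10, 10, true), (9, 11, true), (8, 12, true), (7, 12, true), (5, 14, true), (9, 3, true), (8, 3, true), (7, 4, true), (5, 5, true), (7, 1, true), (6, 1, true), (8, 1, true), (7, 1, true), (5, 2, true), (5, 0, true), (8, 1, true), (6, 2, true), (6, 1, true), (8, 28, true), (7, 28, true), (6, 29, true), (5, 30, true), (4, 33, true), (3, 33, true), (2, 34, true), (0, 35, true), (7, 15, true), (6, 16, true), (5, 16, true), (4, 17, true), (3, 17, true), (2, 19, true), (8, 10, true), (7, 11, true), (6, 11, true), (5, 12, true), (4, 12, true), (9, 1, true), (7, 2, true), (7, 1, true), (9, 15, true), (8, 15, true), (7, 16, true), (6, 17, true), (5, 17, true), (4, 19, true), (3, 19,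 true), (1, 20, true), (7, 10, true), (6, 10, true), (5, 11, true), (4, 12, true), (3, 12, true), (1, 14, true), (5, 1, true), (4, 1, true), (6, 1, true), (5, 1, true), (3, 2, true), (3, 0, true), (1, 5, true), (3, 1, true), (1, 2, true), (1, 0, true)], [(1, 35, true)]),
    ([2, 6, 7], [(0, 23, true), (1, 30, true), (0, 34, true), (8, 3, true), (7, 4, true), (6, 4, true), (4, 5, true), (6, 1, true), (4, 2, true), (4, 1, true)], [(1, 34, true), (0, 30, true), (4, 21, true), (3, 22, true), (2, 22, true), (1, 23, true), (5, 15, true), (4, 16, true), (3, 16, true), (2, 17, true), (6, 10, true), (5, 11, true), (4, 11, true), (3, 12, true), (7, 3, true), (6, 4, true), (5, 4, true), (8, 3, true), (7, 4, true), (6, 4, true), (4, 5, true), (6, 1, true), (4, 2, true), (4, 1, true)]),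
    ([3, 6, 7], [(0, 24, true), (2, 30, true), (1, 31, true), (0, 34, true), (8, 6, true), (7, 7, true), (6, 7, true), (5, 8, true), (4, 8, true), (7, 4, true), (6, 4, true), (7, 2, true), (7, 2, true), (7, 1, true), (8, 0, true), (7, 4, true), (5, 5, true), (5, 2, true)], [(1, 34, true), (0, 31, true), (4, 21, true), (3, 21, true), (2, 22, true), (1, 24, true), (6, 15, true), (5, 15, true), (4, 16, true), (3, 17, true), (2, 18, true), (4, 3, true), (5, 1, true), (6, 0, true), (5, 11, true), (4, 12, true), (3, 13, true), (6, 4, true), (7, 4, true), (5, 5, true), (5, 2, true)]),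
    ([4, 6, 7], [(0, 25, true), (1, 32, true), (0, 34, true), (8, 10, true), (7, 11, true), (6, 11, true), (5, 12, true), (4, 12, true)], [(1, 34, true), (0, 32, true), (1, 25, true), (2, 19, true)]),
    ([5, 6, 7], [(0, 26, true), (1, 33, true), (0, 34, true), (8, 15, true), (7, 16, true), (6, 16, true), (5, 17, true), (4, 17, true), (3, 19, true), (9, 10, true), (8, 11, true), (7, 11, true), (6, 12, true), (5, 12, true), (10, 1, true), (8, 2, true), (8, 1, true)], [(1, 34, true), (0, 33, true), (5, 21, true), (4, 22, true), (3, 22, true), (2, 25, true), (1, 26, true), (6, 15, true), (5, 16, true), (4, 16, true), (3, 19, true), (7, 10, true), (6, 11, true), (5, 11, true), (8, 3, true), (7, 4, true), (6, 4, true), (9, 3, true), (8, 4, true), (7, 4, true), (10, 1, true), (8, 2, true), (8, 1, true)]),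
    ([8, 2, 2, 2], [(0, 38, true), (8, 38, true), (16, 38, true), (7, 29, true), (6, 29, true), (5, 30, true), (4, 30, true), (3, 31, true), (2, 31, true), (1, 33, true), (6, 6, true), (5, 7, true), (4, 7, true), (7, 1, true), (5, 2, true), (5, 0, true), (8, 3, true), (7, 3, true), (6, 4, true), (9, 1, true), (8, 1, true), (10, 1, true), (9, 1, true), (7, 2, true), (7, 0, true), (10, 1, true), (8, 2, true), (8, 1, true), (9, 15, true), (8, 16, true), (7, 17, true), (6, 17, true), (5, 18, true), (4, 18, true), (3, 19, true), (6, 6, true), (8, 3, true), (7, 3, true), (9, 3, true), (8, 3, true), (10, 1, true), (9, 1, true), (10, 0, true), (9, 7, true), (8, 8, true), (7, 8, true), (5, 9, true), (7, 4, true), (6, 4, true), (7, 2, true), (8, 7, true), (7, 7, true), (6, 8, true), (5, 8, true), (8, 4, true), (7, 4, true), (8, 2, true), (8, 2, true), (6, 5, true), (8, 29, true), (7, 29, true), (6, 30, true), (5, 31, true), (4, 32, true), (3, 33, true), (2, 33, true), (0, 35, true), (4, 15, true), (3, 16, true), (2, 16, true), (1, 19, true), (5, 10, true),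 (4, 11, true), (3, 11, true), (6, 1, true), (4, 2, true), (4, 1, true), (6, 10, true), (5, 10, true), (4, 11, true), (2, 14, true), (4, 6, true), (3, 6, true), (2, 7, true), (5, 1, true), (4, 1, true), (5, 0, true), (5, 3, true), (4, 4, true), (3, 4, true), (6, 1, true), (4, 2, true), (4, 1, true), (6, 1, true), (5, 1, true), (7, 1, true), (6, 1, true), (4, 2, true), (5, 15, true), (4, 15, true), (3, 17, true), (2, 18, true), (0, 20, true), (1, 3, true), (2, 0, true), (1, 8, true), (4, 7, true), (3, 7, true), (2, 8, true), (0, 9, true), (1, 2, true), (1, 4, true), (2, 4, true), (0, 5, true), (0, 2, true)], [(1, 5, true)]),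
    ([8, 0, 2], [(0, 36, true), (1, 38, true), (0, 28, true), (1, 15, true), (2, 6, true), (3, 6, true), (4, 3, true), (5, 3, true), (6, 1, true), (7, 1, true)], [(1, 3, true), (0, 38, true), (8, 36, true)]),
    ([8, 3, 3, 3], [(0, 39, true), (7, 39, true), (14, 39, true), (6, 30, true), (5, 30, true), (4, 31, true), (3, 31, true), (2, 32, true), (1, 32, true), (7, 6, true), (6, 6, true), (5, 7, true), (8, 1, true), (7, 1, true), (8, 0, true), (8, 3, true), (7, 4, true), (6, 4, true), (9, 1, true), (7, 2, true), (7, 1, true), (9, 3, true), (8, 3, true), (7, 4, true), (10, 1, true), (9, 1, true), (11, 1, true), (10, 1, true), (8, 2, true), (8, 0, true), (7, 12, true), (6, 12, true), (5, 13, true), (4, 13, true), (2, 14, true), (5, 12, true), (4, 12, true), (3, 13, true), (2, 13, true), (6, 8, true), (5, 8, true), (3, 9, true), (5, 4, true), (4, 4, true), (5, 2, true), (5, 7, true), (4, 8, true), (3, 8, true), (6, 4, true), (5, 4, true), (6, 2, true), (7, 4, true), (6, 4, true), (4, 5, true), (5, 4, true), (4, 4, true), (6, 29, true), (5, 29, true),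 (4, 30, true), (3, 31, true), (2, 32, true), (0, 35, true), (4, 3, true), (3, 3, true), (2, 4, true), (5, 1, true), (4, 1, true), (6, 1, true), (5, 1, true), (3, 2, true), (3, 0, true), (4, 11, true), (3, 11, true), (2, 12, true), (1, 13, true), (5, 11, true), (4, 11, true), (3, 12, true), (2, 13, true), (0, 14, true), (3, 7, true), (2, 7, true), (1, 8, true), (3, 2, true), (3, 7, true), (2, 8, true), (0, 9, true), (1, 2, true), (0, 5, true)], [(1, 9, true)]),
    ([8, 0, 3], [(0, 36, true), (1, 39, true), (0, 28, true), (1, 10, true), (2, 10, true), (3, 6, true), (4, 6, true), (5, 3, true), (6, 3, true)], [(1, 6, true), (0, 39, true), (7, 36, true)]),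
    ([8, 2, 3], [(0, 38, true), (8, 39, true), (7, 29, true), (6, 29, true), (5, 30, true), (4, 30, true), (3, 31, true), (2, 31, true), (1, 33, true), (6, 6, true), (5, 7, true), (4, 7, true), (7, 1, true), (5, 2, true), (5, 0, true), (8, 3, true), (7, 3, true), (6, 4, true), (9, 1, true), (8, 1, true), (10, 1, true), (9, 1, true), (7, 2, true), (7, 0, true), (10, 1, true), (8, 2, true), (8, 1, true), (9, 10, true), (8, 11, true), (7, 12, true), (6, 12, true), (5, 13, true), (4, 13, true), (10, 10, true), (9, 11, true), (8, 12, true), (7, 12, true), (6, 13, true), (5, 13, true), (3, 14, true), (8, 6, true), (7, 7, true), (6, 8, true), (5, 8, true), (3, 9, true), (5, 4, true), (4, 4, true), (5, 2, true), (7, 6, true), (6, 7, true), (5, 7, true), (4, 8, true), (3, 8, true), (6, 4, true), (5, 4, true), (6, 2, true), (6, 2, true), (6, 3, true), (4, 5, true), (4, 3, true)], [(1, 8, true), (0, 39, true), (7, 38, true), (15, 37, true), (19, 37, true), (6, 30, true), (5, 30, true), (4, 31, true), (3, 31, true), (2, 32, true), (1, 32, true), (7, 6, true),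 (6, 6, true), (5, 7, true), (8, 1, true), (7, 1, true), (8, 0, true), (8, 3, true), (7, 4, true), (6, 4, true), (9, 1, true), (7, 2, true), (7, 1, true), (9, 3, true), (8, 3, true), (7, 4, true), (10, 1, true), (9, 1, true), (11, 1, true), (10, 1, true), (8, 2, true), (8, 0, true), (7, 17, true), (6, 17, true), (5, 18, true), (4, 18, true), (3, 19, true), (2, 19, true), (6, 6, true), (8, 3, true), (7, 3, true), (9, 3, true), (8, 3, true), (10, 6, true), (9, 6, true), (8, 8, true), (7, 8, true), (5, 9, true), (7, 4, true), (6, 4, true), (7, 2, true), (9, 6, true), (8, 6, true), (7, 7, true), (6, 8, true), (5, 8, true), (8, 4, true), (7, 4, true), (8, 2, true), (11, 3, true), (10, 3, true), (9, 4, true), (8, 4, true), (6, 5, true), (9, 3, true), (8, 3, true), (7, 4, true), (6, 4, true), (10, 1, true), (9, 1, true), (7, 2, true), (8, 1, true), (7, 1, true), (9, 10, true), (8, 10, true), (7, 11, true), (6, 12, true), (5, 13, true), (3, 14, true), (7, 10, true), (6, 10, true), (5, 11, true), (4, 12, true), (3, 13, true), (8, 1, true), (7, 1, true), (8,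 0, true), (7, 11, true), (6, 11, true), (5, 12, true), (4, 13, true), (8, 11, true), (7, 11, true), (6, 12, true), (5, 13, true), (3, 14, true), (5, 2, true)]),
    ([8, 2, 5], [(0, 38, true), (8, 41, true), (7, 7, true), (6, 7, true), (5, 8, true), (4, 8, true), (2, 9, true), (4, 4, true), (3, 4, true), (4, 2, true), (4, 2, true)], [(1, 17, true), (0, 41, true), (4, 38, true), (3, 28, true), (2, 28, true), (1, 29, true), (0, 31, true), (4, 1, true), (3, 1, true), (4, 0, true), (4, 15, true), (3, 16, true), (2, 16, true), (1, 18, true), (3, 1, true), (4, 1, true), (6, 6, true), (5, 6, true), (4, 7, true), (3, 7, true), (7, 6, true), (6, 6, true), (5, 7, true), (4, 7, true), (2, 9, true), (5, 3, true), (4, 3, true), (3, 4, true), (2, 4, true), (6, 3, true), (5, 3, true), (4, 4, true), (3, 4, true), (7, 1, true), (6, 1, true), (4, 2, true), (5, 1, true), (4, 1, true)]),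
    ([8, 3, 5], [(0, 39, true), (7, 41, true), (6, 8, true), (5, 8, true), (3, 9, true), (5, 4, true), (4, 4, true), (5, 2, true)], [(1, 18, true), (0, 41, true), (4, 39, true), (11, 36, true), (3, 28, true), (2, 28, true), (1, 29, true), (0, 31, true), (4, 1, true), (3, 1, true), (4, 0, true), (4, 10, true), (3, 11, true), (2, 11, true), (1, 13, true), (5, 10, true), (4, 11, true), (3, 11, true), (2, 13, true), (6, 6, true), (5, 7, true), (4, 7, true), (7, 6, true), (6, 7, true), (5, 7, true), (3, 9, true), (5, 3, true), (4, 4, true), (3, 4, true), (6, 3, true), (5, 4, true), (4, 4, true)]),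
    ([8, 5, 7], [(0, 41, true), (4, 42, true), (3, 28, true), (2, 28, true), (1, 29, true), (0, 31, true), (4, 1, true), (3, 1, true), (4, 0, true), (4, 28, true), (3, 29, true), (2, 29, true), (1, 31, true), (5, 1, true), (4, 1, true), (6, 1, true), (5, 1, true), (3, 2, true), (3, 0, true), (2, 18, true), (4, 10, true), (3, 13, true), (5, 10, true), (4, 13, true), (6, 6, true), (7, 6, true), (5, 9, true), (5, 1, true), (6, 1, true)], [(1, 33, true), (0, 42, true), (9, 41, true), (13, 40, true), (17, 37, true), (21, 37, true), (25, 36, true), (8, 7, true), (7, 7, true), (5, 9, true), (5, 2, true), (6, 10, true), (5, 10, true), (3, 14, true), (4, 10, true), (3, 10, true), (4, 0, true), (4, 10, true), (5, 10, true), (3, 14, true), (3, 1, true), (5, 10, true), (4, 10, true), (3, 11, true), (6, 10, true), (5, 10, true), (4, 11, true), (7, 1, true), (6, 1, true), (7, 0, true)]),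
    ([9, 0, 0, 0], [(0, 43, true), (9, 43, true), (18, 43, true), (8, 21, true), (7, 21, true), (6, 22, true), (5, 22, true), (4, 23, true), (3, 25, true), (2, 26, true), (1, 26, true), (9, 15, true), (8, 15, true), (7, 16, true), (6, 16, true), (5, 17, true), (4, 19, true), (2, 20, true), (7, 15, true), (6, 15, true), (5, 16, true), (4, 16, true), (3, 17, true), (2, 19, true), (8, 10, true), (7, 10, true), (6, 11, true), (5, 11, true), (4, 12, true), (9, 3, true), (8, 3, true), (7, 4, true), (6, 4, true), (10, 1, true), (9, 1, true), (7, 2, true), (8, 1, true), (7, 1, true), (8, 0, true), (8, 21, true), (7, 22, true), (6, 23, true), (5, 23, true), (4, 25, true), (3, 25, true), (2, 26, true), (0, 27, true), (6, 15, true), (5, 16, true), (4, 17, true), (3, 17, true), (2, 19, true), (1, 19, true), (7, 15, true), (6, 16, true), (5, 17, true), (4, 17, true), (3, 19, true), (2, 19, true), (0, 20, true), (5, 10, true), (4, 11, true), (3, 12, true), (2, 12, true), (0, 14, true), (3, 3, true), (2, 4, true), (0, 5, true), (1, 1, true), (2, 1, true), (0, 2,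 true), (0, 0, true)], [(1, 0, true)]),
    ([9, 0, 1], [(0, 43, true), (9, 44, true), (8, 15, true), (7, 15, true), (6, 16, true), (5, 16, true), (4, 17, true), (3, 19, true), (1, 20, true), (6, 15, true), (5, 15, true), (4, 16, true), (3, 16, true), (2, 17, true), (1, 19, true), (7, 1, true), (6, 1, true), (4, 2, true), (4, 0, true)], [(1, 1, true), (0, 44, true), (4, 43, true), (3, 21, true), (2, 22, true), (1, 26, true), (0, 26, true), (4, 15, true), (3, 16, true), (1, 20, true), (2, 15, true), (1, 16, true), (3, 10, true), (2, 11, true), (4, 3, true), (3, 4, true), (5, 1, true), (6, 1, true), (4, 2, true), (4, 0, true)]),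
    ([9, 0, 2], [(0, 43, true), (9, 45, true), (8, 15, true), (7, 15, true), (6, 16, true), (5, 16, true), (4, 17, true), (3, 19, true), (1, 20, true), (6, 15, true), (5, 15, true), (4, 16, true), (3, 16, true), (2, 17, true), (1, 19, true), (7, 3, true), (6, 3, true), (5, 4, true), (4, 4, true), (8, 1, true), (7, 1, true), (5, 2, true), (6, 1, true), (5, 1, true), (6, 0, true)], [(1, 3, true), (0, 45, true), (6, 43, true), (5, 21, true), (4, 22, true), (3, 22, true), (2, 23, true), (1, 26, true), (0, 26, true), (6, 15, true), (5, 16, true), (4, 16, true), (3, 17, true), (1, 20, true), (4, 15, true), (3, 16, true), (2, 16, true), (1, 17, true), (5, 10, true), (4, 11, true), (3, 11, true), (2, 12, true), (6, 3, true), (5, 4, true), (4, 4, true), (7, 1, true), (5, 2, true), (5, 1, true), (6, 0, true)])]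
  gauge := [
    [(18, 1)], [(8, 2)], [(24, 1)], [], [(8, 2), (18, 2), (33, 1)], [(24, 1), (33, 2), (34, 1)], [], []]
  picks := [
    [(3, 2)], [(1, 1)], [(0, 1)], [(8, 2)], [(9, 2)], [(7, 1)],
    [(1, 2), (2, 1), (4, 1), (8, 1), (9, 2), (11, 2), (15, 1), (24, 1), (26, 2)],
    [(0, 2), (6, 1), (7, 1), (9, 2)], [],
    [(0, 1), (2, 1), (3, 2), (4, 1), (5, 1), (6, 1), (7, 1), (13, 2), (18, 2), (21, 1), (23, 1), (25, 2)],
    [(5, 2)], [(2, 2)], [(11, 2)],
    [(0, 1), (6, 2), (7, 2), (8, 1), (9, 2), (11, 1), (15, 2), (16, 2), (26, 1)],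
    [(0, 1), (3, 1), (14, 2)], [(1, 2), (2, 2), (4, 2), (5, 1), (8, 1), (9, 1), (11, 1), (15, 2)],
    [(1, 2), (4, 2), (8, 2)], [(10, 1), (12, 1), (15, 2), (19, 1)], [],
    [(2, 1), (5, 2), (11, 1), (21, 2)], [(7, 1), (14, 1), (17, 2)],
    [(8, 2), (10, 1), (12, 2), (15, 2), (19, 1)], [(9, 2), (10, 2)],
    [(1, 2), (2, 1), (4, 2), (8, 1), (10, 2), (11, 1), (12, 1), (15, 2), (19, 1), (32, 1), (33, 2)], [],
    [(11, 1), (15, 2), (19, 1), (22, 2)],
    [(1, 2), (2, 2), (4, 1), (5, 2), (8, 1), (9, 2), (10, 1), (11, 2), (19, 2), (21, 2), (32, 1)],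
    [(14, 2), (17, 2), (31, 1)],
    [(1, 1), (2, 2), (4, 2), (5, 2), (8, 1), (9, 1), (11, 1), (15, 2), (24, 2), (26, 2)],
    [(0, 2), (1, 1), (2, 2), (4, 2), (6, 1), (7, 1), (9, 2), (11, 1), (13, 2), (15, 2), (24, 2), (26, 1)],
    [(0, 1), (1, 1), (2, 2), (4, 2), (5, 2), (8, 1), (9, 1), (10, 2), (12, 2), (15, 2), (16, 2), (20, 1), (24, 2), (26, 2)],
    [(0, 1), (1, 2), (3, 1), (4, 2), (5, 1), (8, 2), (10, 2), (12, 2), (13, 1), (15, 1), (19, 2), (24, 2), (26, 2), (28, 2)],
    [(0, 1), (3, 1), (14, 1), (15, 1), (17, 1), (18, 1), (21, 1)], [], [],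
    [(3, 2), (4, 2), (5, 2), (6, 1), (7, 2), (14, 2), (18, 1), (21, 2), (23, 2), (25, 2)]]

/-- The elements of the certificate at 3 among the chosen ones. -/
def idxThree : List ℕ :=
  [23, 35, 36, 32, 37, 38, 27, 34, 52, 53]

/-- A vector moved freely by the subgroup at 3. -/
def vecThree : ℕ := 0x40000401403010020040401001

/-- The certificate at 5. -/
def certFive : Schur.PrimeCert.Cert where
  p := 5
  n := 2
  rules := [
    ([0, 0, 0, 0, 0], []), ([0, 1], [1, 0]), ([1, 1, 1, 1, 1], []), ([2, 0], [1, 1, 1, 1, 0, 2]),
    ([2, 1], [1, 1, 1, 1, 2]), ([3, 0], [1, 0, 0, 0, 0, 3]), ([3, 1], [0, 0, 0, 0, 3])]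
  eqs := [
    ([2, 0, 0, 0, 0, 0], [(0, 3, true), (5, 3, true), (10, 3, true), (15, 3, true), (20, 3, true), (4, 1, true), (0, 2, true), (0, 1, true), (1, 1, true), (2, 1, true), (4, 1, true), (3, 1, true), (5, 1, true), (4, 1, true), (0, 2, true), (1, 1, true), (0, 1, true), (2, 1, true), (1, 1, true), (4, 1, true), (3, 1, true), (2, 1, true), (5, 1, true), (4, 1, true), (3, 1, true), (6, 1, true), (5, 1, true), (4, 1, true), (0, 2, true), (2, 1, true), (1, 1, true), (0, 1, true), (4, 1, true), (3, 1, true), (2, 1, true), (1, 1, true), (5, 1, true), (4, 1, true), (3, 1, true), (2, 1, true), (6, 1, true), (5, 1, true), (4, 1, true), (3, 1, true), (7, 1, true), (6, 1, true), (5, 1, true), (4, 1, true), (0, 2, true), (0, 0, true)], [(1, 0, true)]),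
    ([2, 0, 1], [(0, 3, true), (5, 4, true), (4, 1, true), (0, 2, true), (0, 1, true), (1, 1, true), (2, 1, true)], [(1, 1, true), (0, 4, true), (4, 3, true), (0, 2, true)]),
    ([3, 0, 0, 0, 0, 0], [(0, 5, true), (5, 5, true), (10, 5, true), (15, 5, true), (20, 5, true), (4, 1, true), (3, 1, true), (2, 1, true), (1, 1, true), (2, 0, true), (4, 1, true), (3, 1, true), (2, 1, true), (3, 0, true), (4, 1, true), (3, 1, true), (4, 0, true), (4, 1, true), (0, 2, true), (0, 0, true)], [(1, 0, true)])]
  gauge := [
    [], []]
  picks := [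
    [(0, 2), (2, 2)], [(1, 2)], [(0, 4)]]

/-- The elements of the certificate at 5 among the chosen ones. -/
def idxFive : List ℕ :=
  [59, 57, 60, 61]

/-- A vector moved freely by the subgroup at 5. -/
def vecFive : ℕ := 0x40000401403010020040401001

/-- Pairs of words commuting up to a scalar. -/
def comPairs : List (List ℕ × List ℕ × ℕ) :=
  [([46, 44], [11], 6), ([34, 36], [38, 32], 2)]

end CfsgLib.SuzukiCover
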